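import Cfsg.Agent.Lib.Higman.FixedBound
import Cfsg.Agent.Lib.Base.Cores
import Cfsg.Agent.Lib.Base.MinimalNormal
import Cfsg.Agent.Lib.Coprime.Action2
import Cfsg.Agent.Lib.PGroups.Basic
import Cfsg.Agent.Lib.SolvStruct.AbelianNilpotentDerivedLength

/-!
# Alperin's theorem on automorphisms of solvable groups

A solvable group with an automorphism of order `p` fixing `p ^ n` elements: the `p'`-core is
nilpotent of bounded class, the `p`-core of the quotient has bounded derived length, and what is
left acts faithfully on a bounded elementary abelian group.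
-/

set_option linter.style.haveILetI false
set_option linter.unusedSectionVars false
set_option autoImplicit false

namespace CfsgLib.Higman

open Subgroup
open scoped commutatorElement

theorem derivedSeries_card_eq_bot {X : Type*} [Group X] [Finite X] (hX : Group.IsSolvable X) :
    derivedSeries X (Nat.card X) = ⊥ := by
  obtain ⟨N, hN⟩ := (Group.isSolvable_def X).1 hX
  by_contra hne
  -- the series decreases strictly until it is trivial
  have key : ∀ k, k ≤ Nat.card X → Nat.card (derivedSeries X k) + k ≤ Nat.card X := by
    intro k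
    induction k with
    | zero => intro _; rw [derivedSeries_zero, card_top]; omega
    | succ k ih =>
      intro hk
      have h1 := ih (by omega)
      have hlt : derivedSeries X (k + 1) < derivedSeries X k := by
        refine lt_of_le_of_ne (derivedSeries_antitone X k.le_succ) fun e => hne ?_
        have hc : ∀ j, derivedSeries X (k + j) = derivedSeries X k := by
          intro j
          induction j with
          | zero => rfl
          | succ j ihj => rw [Nat.add_succ, derivedSeries_succ, ihj, ← derivedSeries_succ, e]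
        rw [eq_bot_iff]
        refine (derivedSeries_antitone X (show k ≤ Nat.card X by omega)).trans ?_
        rw [← hc N]
        exact (derivedSeries_antitone X (Nat.le_add_left N k)).trans hN.le
      have h2 : Nat.card (derivedSeries X (k + 1)) < Nat.card (derivedSeries X k) := by
        refine lt_of_le_of_ne (Nat.le_of_dvd Nat.card_pos (card_dvd_of_le hlt.le)) fun e => ?_
        exact hlt.ne (Subgroup.eq_of_le_of_card_ge hlt.le e.ge)
      omega
  have h := key _ le_rfl
  have : 0 < Nat.card (derivedSeries X (Nat.card X)) := Nat.card_pos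
  omega

variable {p : ℕ} [Fact p.Prime]

/-- The restriction of an automorphism to an invariant subgroup. -/
theorem exists_restrict {G : Type*} [Group G] [Finite G] (α : MulAut G) (H : Subgroup G)
    (hH : ∀ g ∈ H, α g ∈ H) (hα : α ^ p = 1) :
    ∃ β : MulAut H, β ^ p = 1 ∧ ∀ h : H, (β h : G) = α h := by
  let f : H →* H :=
    { toFun := fun h => ⟨α h, hH h h.2⟩
      map_one' := Subtype.ext (map_one α)
      map_mul' := fun a b => Subtype.ext (map_mul α (a : G) b) }
  have hf : Function.Injective f := fun a b h =>
    Subtype.ext (α.injective (congrArg Subtype.val h))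
  let β : MulAut H := MulEquiv.ofBijective f ⟨hf, Finite.injective_iff_surjective.1 hf⟩
  have hpow : ∀ (m : ℕ) (g : H), ((β ^ m) g : G) = (α ^ m) (g : G) := by
    intro m
    induction m with
    | zero => intro g; rfl
    | succ m ih => intro g; rw [pow_succ', pow_succ']; exact congrArg α (ih g)
  exact ⟨β, MulEquiv.ext fun g => Subtype.ext (by rw [hpow, hα]; rfl), fun h => rfl⟩

theorem card_fixed_restrict_le {G : Type*} [Group G] [Finite G] (α : MulAut G) {H : Subgroup G}
    (β : MulAut H) (hβ : ∀ h : H, (β h : G) = α h) :
    Nat.card {h : H // β h = h} ≤ Nat.card {g : G // α g = g} :=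
  Nat.card_le_card_of_injective
    (fun h => ⟨(h.1 : G), (hβ h.1).symm.trans (congrArg Subtype.val h.2)⟩)
    fun _ _ h => Subtype.ext (Subtype.ext (congrArg Subtype.val h :))

/-- The induced automorphism of a quotient. -/
theorem exists_quotient {G : Type*} [Group G] [Finite G] (α : MulAut G) (N : Subgroup G) [N.Normal]
    (hN : ∀ g ∈ N, α g ∈ N) (hα : α ^ p = 1) :
    ∃ β : MulAut (G ⧸ N), β ^ p = 1 ∧ ∀ g : G, β (g : G ⧸ N) = (α g : G ⧸ N) := by
  let f : G ⧸ N →* G ⧸ N := QuotientGroup.map N N α.toMonoidHom fun g hg => hN g hg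
  have hf : Function.Surjective f := by
    intro q
    obtain ⟨g, rfl⟩ := QuotientGroup.mk_surjective q
    exact ⟨((α⁻¹ g : G) : G ⧸ N), congrArg QuotientGroup.mk (α.apply_symm_apply g)⟩
  let β : MulAut (G ⧸ N) := MulEquiv.ofBijective f ⟨Finite.injective_iff_surjective.2 hf, hf⟩
  have hpow : ∀ (m : ℕ) (g : G), (β ^ m) (g : G ⧸ N) = ((α ^ m) g : G) := by
    intro m
    induction m with
    | zero => intro g; rfl
    | succ m ih =>
      intro g
      rw [pow_succ', pow_succ', MulAut.mul_apply, ih]
      rfl
  refine ⟨β, MulEquiv.ext fun q => ?_, fun g => rfl⟩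
  obtain ⟨g, rfl⟩ := QuotientGroup.mk_surjective q
  rw [hpow, hα]
  rfl

/-- An elementary quotient of a p-group has boundedly many elements. -/
theorem card_quotient_frattini_le {P : Type*} [Group P] [Finite P] (hP : IsPGroup p P)
    (α : MulAut P) (hα : α ^ p = 1) (c : ℕ) (hc : Nat.card {g : P // α g = g} ≤ c) :
    Nat.card (P ⧸ frattini P) ≤ c ^ p := by
  classical
  obtain ⟨β, hβp, hβ⟩ := exists_quotient α (frattini P)
    (fun g hg => by
      have h : α g ∈ (frattini P).map α.toMonoidHom := ⟨g, hg, rfl⟩
      rwa [Subgroup.characteristic_iff_map_eq.1 inferInstance α] at h) hα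
  letI : CommGroup (P ⧸ frattini P) :=
    { (inferInstance : Group (P ⧸ frattini P)) with
      mul_comm := by
        intro a b
        obtain ⟨x, rfl⟩ := QuotientGroup.mk_surjective a
        obtain ⟨y, rfl⟩ := QuotientGroup.mk_surjective b
        rw [← QuotientGroup.mk_mul, ← QuotientGroup.mk_mul, QuotientGroup.eq]
        refine PGroups.commutator_le_frattini hP ?_
        rw [show (x * y)⁻¹ * (y * x) = ⁅y⁻¹, x⁻¹⁆ by rw [commutatorElement_def]; group]
        exact Subgroup.commutator_mem_commutator (mem_top _) (mem_top _) }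
  let a : AddMonoid.End (Additive (P ⧸ frattini P)) := MonoidHom.toAdditive β.toMonoidHom
  have hpow : ∀ (m : ℕ) (v : Additive (P ⧸ frattini P)),
      (a ^ m) v = Additive.ofMul ((β ^ m) v.toMul) := by
    intro m
    induction m with
    | zero => intro v; rfl
    | succ m ih =>
      intro v
      rw [pow_succ', pow_succ', AddMonoid.End.coe_mul, Function.comp_apply, ih]
      rfl
  have h := card_le_of_fixed a (DFunLike.ext _ _ fun v => by rw [hpow, hβp]; rfl) 1
    (fun v => by
      obtain ⟨g, hg⟩ := QuotientGroup.mk_surjective (Additive.toMul v)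
      rw [show v = Additive.ofMul (QuotientGroup.mk g) by rw [hg]; rfl, ← ofMul_pow,
        ← QuotientGroup.mk_pow, ← ofMul_one, Additive.ofMul.injective.eq_iff,
        QuotientGroup.eq_one_iff, pow_one]
      exact PGroups.pow_mem_frattini hP g)
    c (le_trans (le_of_eq (Nat.card_congr (Equiv.subtypeEquiv Additive.toMul fun v => Iff.rfl)))
      ((card_fixed_quotient_le α (frattini P) (fun g hg => by
        have h : α g ∈ (frattini P).map α.toMonoidHom := ⟨g, hg, rfl⟩
        rwa [Subgroup.characteristic_iff_map_eq.1 inferInstance α] at h) β hβ).trans hc))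
  rw [mul_one] at h
  exact le_trans (le_of_eq (Nat.card_congr Additive.ofMul)) h

/-- The bound for solvable groups. -/
def alperinBound (p n : ℕ) : ℕ :=
  ((p ^ n) ^ p) ^ ((p ^ n) ^ p) + pGroupBound p n + higmanBound p

/-- Without `p'`-core: bounded derived length. -/
theorem derivedSeries_eq_bot_of_core {G : Type*} [Group G] [Finite G] [Group.IsSolvable G]
    (hcore : Cfsg.pPrimeCore p G = ⊥) (α : MulAut G) (hα : α ^ p = 1) (n : ℕ)
    (hfix : Nat.card {g : G // α g = g} ≤ p ^ n) :
    derivedSeries G (((p ^ n) ^ p) ^ ((p ^ n) ^ p) + pGroupBound p n) = ⊥ := by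
  classical
  set P := Cfsg.pCore p G with hPdef
  have hPp : IsPGroup p P := Base.isPGroup_pCore p G
  haveI : P.Normal := inferInstance
  obtain ⟨β, hβp, hβ⟩ := exists_restrict α P (fun g hg => by
    have h : α g ∈ P.map α.toMonoidHom := ⟨g, hg, rfl⟩
    rwa [Subgroup.characteristic_iff_map_eq.1 inferInstance α] at h) hα
  have hfixP := (card_fixed_restrict_le α β hβ).trans hfix
  set V := P ⧸ frattini P
  have hV := card_quotient_frattini_le hPp β hβp _ hfixP
  -- the action of `G` on the elementary quotient
  let act : G →* Equiv.Perm V :=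
    { toFun := fun g =>
        { toFun := fun v => QuotientGroup.map (frattini P) (frattini P)
            (MulAut.conjNormal g : MulAut P).toMonoidHom
            (fun x hx => by
              have h : (MulAut.conjNormal g : MulAut P) x ∈
                  (frattini P).map (MulAut.conjNormal g : MulAut P).toMonoidHom := ⟨x, hx, rfl⟩
              rwa [Subgroup.characteristic_iff_map_eq.1 inferInstance] at h) v
          invFun := fun v => QuotientGroup.map (frattini P) (frattini P)
            (MulAut.conjNormal g⁻¹ : MulAut P).toMonoidHom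
            (fun x hx => by
              have h : (MulAut.conjNormal g⁻¹ : MulAut P) x ∈
                  (frattini P).map (MulAut.conjNormal g⁻¹ : MulAut P).toMonoidHom := ⟨x, hx, rfl⟩
              rwa [Subgroup.characteristic_iff_map_eq.1 inferInstance] at h) v
          left_inv := fun v => by
            obtain ⟨x, rfl⟩ := QuotientGroup.mk_surjective v
            simp
          right_inv := fun v => by
            obtain ⟨x, rfl⟩ := QuotientGroup.mk_surjective v
            simp }
      map_one' := Equiv.ext fun v => by
        obtain ⟨x, rfl⟩ := QuotientGroup.mk_surjective v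
        simp
      map_mul' := fun g h => Equiv.ext fun v => by
        obtain ⟨x, rfl⟩ := QuotientGroup.mk_surjective v
        simp }
  have hker : act.ker ≤ P := by
    haveI : act.ker.Normal := act.normal_ker
    refine Base.le_pCore (fun x => ?_)
    -- the `p'`-part of `x` centralises `P`, so it lies in `P`
    have hp : p.Prime := Fact.out
    obtain ⟨e, m, hm, hxm⟩ := Nat.exists_eq_pow_mul_and_not_dvd (orderOf_pos x).ne' p hp.ne_one
    refine ⟨e, orderOf_eq_one_iff.1 ?_⟩
    rw [orderOf_pow' x (pow_ne_zero _ hp.ne_zero), hxm, Nat.gcd_mul_right_left,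
      Nat.mul_div_cancel_left _ (pow_pos hp.pos e)]
    by_contra hm1
    set y : G := (x : G) ^ p ^ e with hy
    have hym : orderOf y = m := by
      rw [hy, orderOf_pow' (x : G) (pow_ne_zero _ hp.ne_zero), Subgroup.orderOf_coe, hxm,
        Nat.gcd_mul_right_left, Nat.mul_div_cancel_left _ (pow_pos hp.pos e)]
    have hyk : y ∈ act.ker := pow_mem x.2 _
    have hcop : (Nat.card (zpowers y)).Coprime (Nat.card (frattini P)) := by
      obtain ⟨j, hj⟩ := IsPGroup.iff_card.1 (hPp.to_subgroup (frattini P))
      rw [Nat.card_zpowers, hym, hj]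
      exact ((hp.coprime_iff_not_dvd.2 hm).symm).pow_right j
    have hcent := Coprime.le_centralizer_of_trivial_mod_frattini (A := zpowers y) (K := P)
      (fun a _ => (Subgroup.mem_normalizer_iff.2 fun h =>
        ⟨fun hh => (inferInstance : P.Normal).conj_mem h hh a, fun hh => by
          have := (inferInstance : P.Normal).conj_mem _ hh a⁻¹
          simpa [mul_assoc] using this⟩)) hcop ?_
    · have hyP : y ∈ P := Base.centralizer_pCore_le_of_isSolvable hcore (hcent (mem_zpowers y))
      obtain ⟨j, hj⟩ := IsPGroup.iff_orderOf.1 hPp ⟨y, hyP⟩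
      rw [Subgroup.orderOf_mk, hym] at hj
      rcases j with _ | j
      · exact hm1 (hj.trans (pow_zero p))
      · exact hm (hj ▸ dvd_pow_self p j.succ_ne_zero)
    · intro a ha k hk
      have hak : a ∈ act.ker := (zpowers_le.2 hyk) ha
      have h1 : (QuotientGroup.mk ((MulAut.conjNormal a : MulAut P) ⟨k, hk⟩) : V) =
          QuotientGroup.mk ⟨k, hk⟩ := by
        have := Equiv.ext_iff.1 (MonoidHom.mem_ker.1 hak) (QuotientGroup.mk ⟨k, hk⟩)
        exact this
      rw [QuotientGroup.eq] at h1
      refine ⟨_, (frattini P).inv_mem ((inferInstance : (frattini P).Normal).conj_mem _ h1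
        ⟨k, hk⟩), ?_⟩
      simp [mul_assoc]
  have hrange : derivedSeries act.range (Nat.card act.range) = ⊥ :=
    derivedSeries_card_eq_bot (Group.isSolvable_of_surjective act.rangeRestrict_surjective)
  have hcard : Nat.card act.range ≤ ((p ^ n) ^ p) ^ ((p ^ n) ^ p) := by
    refine le_trans (Nat.card_le_card_of_injective _ Subtype.val_injective) ?_
    rw [Nat.card_perm]
    refine (Nat.factorial_le_pow _).trans ?_
    exact (Nat.pow_le_pow_left hV _).trans (Nat.pow_le_pow_right
      (Nat.pos_of_ne_zero (pow_ne_zero _ (pow_ne_zero _ (Fact.out : p.Prime).ne_zero))) hV)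
  have hle : derivedSeries G (((p ^ n) ^ p) ^ ((p ^ n) ^ p)) ≤ P := by
    refine le_trans ?_ hker
    rw [← MonoidHom.ker_rangeRestrict, ← (Subgroup.map_eq_bot_iff), eq_bot_iff]
    refine (map_derivedSeries_le_derivedSeries act.rangeRestrict _).trans ?_
    exact (derivedSeries_antitone _ hcard).trans hrange.le
  refine le_bot_iff.1 ((SolvStruct.AbNilDerived.derivedSeries_add_le_map hle _).trans ?_)
  rw [derivedSeries_eq_bot_of_pGroup hPp β hβp n hfixP, Subgroup.map_bot]

/-- Alperin's bound. -/
theorem derivedSeries_eq_bot_of_solvable {G : Type*} [Group G] [Finite G]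
    (hs : Group.IsSolvable G) (α : MulAut G) (hα : α ^ p = 1) (n : ℕ)
    (hfix : Nat.card {g : G // α g = g} = p ^ n) : derivedSeries G (alperinBound p n) = ⊥ := by
  set O := Cfsg.pPrimeCore p G with hO
  have hinv : ∀ g ∈ O, α g ∈ O := fun g hg => by
    have h : α g ∈ O.map α.toMonoidHom := ⟨g, hg, rfl⟩
    rwa [Subgroup.characteristic_iff_map_eq.1 inferInstance α] at h
  obtain ⟨β, hβp, hβ⟩ := exists_restrict α O hinv hα
  have hfpf : ∀ g, β g = g → g = 1 := by
    intro g hg
    let C : Subgroup G :=
      { carrier := {g | α g = g}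
        one_mem' := map_one α
        mul_mem' := fun {a b} ha hb => by
          show α (a * b) = a * b
          rw [map_mul, show α a = a from ha, show α b = b from hb]
        inv_mem' := fun {a} ha => by
          show α a⁻¹ = a⁻¹
          rw [map_inv, show α a = a from ha] }
    have hgC : (g : G) ∈ C := (hβ g).symm.trans (congrArg Subtype.val hg)
    have h1 : orderOf (g : G) ∣ p ^ n := by
      have := C.orderOf_dvd_natCard hgC
      rwa [show Nat.card C = p ^ n from hfix] at this
    have h2 : orderOf (g : G) ∣ Nat.card O := O.orderOf_dvd_natCard g.2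
    have h3 := Nat.eq_one_of_dvd_coprimes ((Base.pPrimeCore_coprime p G).pow_right n) h2 h1
    exact Subtype.ext (orderOf_eq_one_iff.1 h3)
  have hOb : derivedSeries O (higmanBound p) = ⊥ := le_bot_iff.1
    ((Subgroup.derived_le_lower_central _).trans
      (lowerCentralSeries_eq_bot_of_fixedPointFree (Fact.out : p.Prime) β hβp hfpf).2.2.le)
  obtain ⟨γ, hγp, hγ⟩ := exists_quotient α O hinv hα
  haveI : Group.IsSolvable (G ⧸ O) :=
    Group.isSolvable_of_surjective (f := QuotientGroup.mk' O) (QuotientGroup.mk'_surjective O)
  have hq := derivedSeries_eq_bot_of_core (G := G ⧸ O) (Base.pPrimeCore_quotient_pPrimeCore p G)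
    γ hγp n ((card_fixed_quotient_le α O hinv γ hγ).trans hfix.le)
  have hle : derivedSeries G (((p ^ n) ^ p) ^ ((p ^ n) ^ p) + pGroupBound p n) ≤ O := by
    rw [← map_derivedSeries_eq (f := QuotientGroup.mk' O) (QuotientGroup.mk'_surjective O),
      Subgroup.map_eq_bot_iff, QuotientGroup.ker_mk'] at hq
    exact hq
  refine le_bot_iff.1 ((SolvStruct.AbNilDerived.derivedSeries_add_le_map hle (higmanBound p)).trans ?_)
  rw [hOb, Subgroup.map_bot]

end CfsgLib.Higman
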