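import Mathlib

/-!
# Lie rings graded by a group of prime order with trivial zero component

The theorems of Kreknin and of Kostrikin: such a Lie ring is soluble of derived length at most
`2 ^ (p - 1) - 1` and nilpotent of class at most `∑ i < 2 ^ (p - 1) - 1, (p - 1) ^ i`.
A graded subring is handled as a family of additive subgroups indexed by `ZMod p`.
-/

set_option linter.unusedSectionVars false
set_option autoImplicit false

namespace CfsgLib.Higman

theorem zmod_two_cases : ∀ u v : ZMod 2, u = 0 ∨ v = 0 ∨ u + v = 0 := by decide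

theorem zmod_three_cases : ∀ a b e : ZMod 3,
    a = 0 ∨ b = 0 ∨ e = 0 ∨ a + b = 0 ∨ a + b + e = 0 ∨ (a + e = 0 ∧ b + e = 0) := by decide

variable {p : ℕ} {L : Type*} [LieRing L]

/-- The product of two graded families. -/
def gradedMul (F K : ZMod p → AddSubgroup L) (c : ZMod p) : AddSubgroup L :=
  AddSubgroup.closure {z | ∃ a b, ∃ x ∈ F a, ∃ y ∈ K b, a + b = c ∧ ⁅x, y⁆ = z}

/-- A family closed under the bracket, compatibly with the degrees. -/
def IsBracketClosed (K : ZMod p → AddSubgroup L) : Prop :=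
  ∀ a b, ∀ x ∈ K a, ∀ y ∈ K b, ⁅x, y⁆ ∈ K (a + b)

/-- The iterated product `F K ⋯ K`. -/
def gradedPow (F K : ZMod p → AddSubgroup L) : ℕ → ZMod p → AddSubgroup L
  | 0 => F
  | n + 1 => gradedMul (gradedPow F K n) K

/-- The derived series of a graded family. -/
def derivedFamily : ℕ → (ZMod p → AddSubgroup L) → ZMod p → AddSubgroup L
  | 0, K => K
  | n + 1, K => derivedFamily n (gradedMul K K)

theorem bracket_mem_gradedMul {F K : ZMod p → AddSubgroup L} {a b : ZMod p} {x y : L}
    (hx : x ∈ F a) (hy : y ∈ K b) : ⁅x, y⁆ ∈ gradedMul F K (a + b) :=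
  AddSubgroup.subset_closure ⟨a, b, x, hx, y, hy, rfl, rfl⟩

theorem gradedMul_le {F K T : ZMod p → AddSubgroup L}
    (h : ∀ a b, ∀ x ∈ F a, ∀ y ∈ K b, ⁅x, y⁆ ∈ T (a + b)) (c : ZMod p) :
    gradedMul F K c ≤ T c := by
  refine (AddSubgroup.closure_le _).mpr ?_
  rintro _ ⟨a, b, x, hx, y, hy, rfl, rfl⟩
  exact h a b x hx y hy

theorem gradedMul_mono {F F' K K' : ZMod p → AddSubgroup L} (hF : ∀ a, F a ≤ F' a)
    (hK : ∀ a, K a ≤ K' a) (c : ZMod p) : gradedMul F K c ≤ gradedMul F' K' c :=
  gradedMul_le (fun _ _ _ hx _ hy => bracket_mem_gradedMul (hF _ hx) (hK _ hy)) c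

theorem IsBracketClosed.gradedMul_self_le {K : ZMod p → AddSubgroup L} (hK : IsBracketClosed K)
    (c : ZMod p) : gradedMul K K c ≤ K c :=
  gradedMul_le hK c

theorem IsBracketClosed.gradedMul_self {K : ZMod p → AddSubgroup L} (hK : IsBracketClosed K) :
    IsBracketClosed (gradedMul K K) := fun _ _ _ hx _ hy =>
  bracket_mem_gradedMul (hK.gradedMul_self_le _ hx) (hK.gradedMul_self_le _ hy)

theorem IsBracketClosed.derivedFamily {K : ZMod p → AddSubgroup L} (hK : IsBracketClosed K)
    (n : ℕ) : IsBracketClosed (derivedFamily n K) ∧ ∀ c, derivedFamily n K c ≤ K c := by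
  induction n generalizing K with
  | zero => exact ⟨hK, fun c => le_rfl⟩
  | succ n ih =>
    obtain ⟨h1, h2⟩ := ih hK.gradedMul_self
    exact ⟨h1, fun c => (h2 c).trans (hK.gradedMul_self_le c)⟩

theorem derivedFamily_add (m n : ℕ) (K : ZMod p → AddSubgroup L) :
    derivedFamily (m + n) K = derivedFamily n (derivedFamily m K) := by
  induction m generalizing K with
  | zero => rw [Nat.zero_add]; rfl
  | succ m ih => rw [Nat.succ_add]; exact ih _

/-! ### Kreknin's theorem -/

/-- Left-normed monomials in the homogeneous elements of degree above `k`. -/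
inductive HighMono (K : ZMod p → AddSubgroup L) (k : ℕ) : ZMod p → L → Prop
  | base {a : ZMod p} {x : L} (ha : k < a.val) (hx : x ∈ K a) : HighMono K k a x
  | step {a b : ZMod p} {x y : L} (hy : HighMono K k b y) (ha : k < a.val) (hx : x ∈ K a) :
      HighMono K k (b + a) ⁅y, x⁆

/-- The graded subring generated by the components of degree above `k`. -/
def highPart (K : ZMod p → AddSubgroup L) (k : ℕ) (c : ZMod p) : AddSubgroup L :=
  AddSubgroup.closure {x | HighMono K k c x}

theorem HighMono.mem {K : ZMod p → AddSubgroup L} (hK : IsBracketClosed K) {k : ℕ} {c : ZMod p}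
    {x : L} (h : HighMono K k c x) : x ∈ K c := by
  induction h with
  | base _ hx => exact hx
  | step _ _ hx ih => exact hK _ _ _ ih _ hx

theorem highPart_le {K : ZMod p → AddSubgroup L} (hK : IsBracketClosed K) (k : ℕ) (c : ZMod p) :
    highPart K k c ≤ K c :=
  (AddSubgroup.closure_le _).mpr fun _ hx => HighMono.mem hK hx

theorem bracket_high_mem {K : ZMod p → AddSubgroup L} {k : ℕ} {a b : ZMod p} {x y : L}
    (hy : y ∈ highPart K k b) (ha : k < a.val) (hx : x ∈ K a) :
    ⁅y, x⁆ ∈ highPart K k (b + a) := by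
  induction hy using AddSubgroup.closure_induction with
  | mem u hu => exact AddSubgroup.subset_closure (HighMono.step hu ha hx)
  | zero => rw [zero_lie]; exact zero_mem _
  | add u v _ _ hu hv => rw [add_lie]; exact add_mem hu hv
  | neg u _ hu => rw [neg_lie]; exact neg_mem hu

theorem lie_lie_expand (x y h : L) : ⁅x, ⁅y, h⁆⁆ = ⁅⁅x, y⁆, h⁆ - ⁅⁅x, h⁆, y⁆ := by
  rw [leibniz_lie x y h, ← lie_skew y ⁅x, h⁆]
  abel

theorem isBracketClosed_highPart (K : ZMod p → AddSubgroup L) (k : ℕ) :
    IsBracketClosed (highPart K k) := by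
  have key : ∀ b (y : L), HighMono K k b y → ∀ a, ∀ x ∈ highPart K k a,
      ⁅x, y⁆ ∈ highPart K k (a + b) := by
    intro b y hy
    induction hy with
    | base ha hy => exact fun a x hx => bracket_high_mem hx ha hy
    | @step a' b' h y' _ ha hh ih =>
      intro a x hx
      rw [lie_lie_expand]
      refine sub_mem ?_ ?_
      · rw [← add_assoc]
        exact bracket_high_mem (ih a x hx) ha hh
      · rw [show a + (b' + a') = a + a' + b' by abel]
        exact ih _ _ (bracket_high_mem hx ha hh)
  intro a b x hx y hy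
  induction hy using AddSubgroup.closure_induction with
  | mem u hu => exact key b u hu a x hx
  | zero => rw [lie_zero]; exact zero_mem _
  | add u v _ _ hu hv => rw [lie_add]; exact add_mem hu hv
  | neg u _ hu => rw [lie_neg]; exact neg_mem hu

variable [NeZero p]

/-- The key step: an element of degree `k` with a factor from the part above `k - 1` lies in the
part above `k`. -/
theorem bracket_mem_highPart_succ {K : ZMod p → AddSubgroup L} (hK : IsBracketClosed K)
    (h0 : K 0 = ⊥) {k : ℕ} (hk : k + 1 < p) {a b : ZMod p} {x y : L} (hx : x ∈ K a)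
    (hy : y ∈ highPart K k b) (hab : a + b = ((k + 1 : ℕ) : ZMod p)) :
    ⁅x, y⁆ ∈ highPart K (k + 1) ((k + 1 : ℕ) : ZMod p) := by
  have hkval : ((k + 1 : ℕ) : ZMod p).val = k + 1 := ZMod.val_natCast_of_lt hk
  -- the complement of a degree above `k + 1` is above `k + 1`
  have hval : ∀ u v : ZMod p, u + v = ((k + 1 : ℕ) : ZMod p) → k + 1 < v.val → k + 1 < u.val := by
    intro u v huv hv
    have h1 := ZMod.val_lt u
    have h2 := ZMod.val_lt v
    have h3 : (u + v).val = k + 1 := by rw [huv, hkval]
    rw [ZMod.val_add] at h3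
    rcases lt_or_ge (u.val + v.val) p with h | h
    · rw [Nat.mod_eq_of_lt h] at h3; omega
    · rw [Nat.mod_eq_sub_mod h, Nat.mod_eq_of_lt (by omega)] at h3; omega
  have hzero : ∀ u v : ZMod p, u + v = ((k + 1 : ℕ) : ZMod p) → v.val = k + 1 → u = 0 := by
    intro u v huv hv
    have hv' : v = ((k + 1 : ℕ) : ZMod p) := ZMod.val_injective p (hv.trans hkval.symm)
    rw [hv'] at huv
    exact add_eq_right.mp huv
  have key : ∀ b (y : L), HighMono K k b y → ∀ a, ∀ x ∈ K a, a + b = ((k + 1 : ℕ) : ZMod p) →
      ⁅x, y⁆ ∈ highPart K (k + 1) ((k + 1 : ℕ) : ZMod p) := by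
    intro b y hy
    induction hy with
    | @base b y hb hy =>
      intro a x hx hab
      rcases eq_or_lt_of_le (Nat.succ_le_of_lt hb) with h | h
      · rw [hzero a b hab h.symm, h0, AddSubgroup.mem_bot] at hx
        rw [hx, zero_lie]
        exact zero_mem _
      · rw [← hab]
        exact bracket_high_mem (AddSubgroup.subset_closure (HighMono.base (hval a b hab h) hx))
          h hy
    | @step l b' h y' hy' hl hh ih =>
      intro a x hx hab
      rw [lie_lie_expand]
      refine sub_mem ?_ (ih (a + l) _ (hK _ _ _ hx _ hh) (by rw [← hab]; abel))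
      have hmem : ⁅x, y'⁆ ∈ K (a + b') := hK _ _ _ hx _ (HighMono.mem hK hy')
      have hab' : a + b' + l = ((k + 1 : ℕ) : ZMod p) := by rw [← hab]; abel
      rcases eq_or_lt_of_le (Nat.succ_le_of_lt hl) with he | he
      · rw [hzero _ l hab' he.symm, h0, AddSubgroup.mem_bot] at hmem
        rw [hmem, zero_lie]
        exact zero_mem _
      · rw [← hab']
        exact bracket_high_mem
          (AddSubgroup.subset_closure (HighMono.base (hval _ l hab' he) hmem)) he hh
  induction hy using AddSubgroup.closure_induction with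
  | mem u hu => exact key b u hu a x hx hab
  | zero => rw [lie_zero]; exact zero_mem _
  | add u v _ _ hu hv => rw [lie_add]; exact add_mem hu hv
  | neg u _ hu => rw [lie_neg]; exact neg_mem hu

theorem derivedFamily_le_highPart {K : ZMod p → AddSubgroup L} (hK : IsBracketClosed K)
    (h0 : K 0 = ⊥) {k : ℕ} (hk : k < p) :
    ∀ c, derivedFamily (2 ^ k - 1) K c ≤ highPart K k c := by
  induction k generalizing K with
  | zero =>
    intro c x hx
    change x ∈ K c at hx
    rcases Nat.eq_zero_or_pos c.val with hc | hc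
    · rw [(ZMod.val_eq_zero c).mp hc, h0, AddSubgroup.mem_bot] at hx
      rw [hx]
      exact zero_mem _
    · exact AddSubgroup.subset_closure (HighMono.base hc hx)
  | succ k ih =>
    obtain ⟨hM, hMK⟩ := hK.derivedFamily (2 ^ k - 1)
    set M := derivedFamily (2 ^ k - 1) K with hMdef
    have hMH := ih hK h0 (by omega)
    set N := gradedMul M M with hN
    have hNK : ∀ c, N c ≤ K c := fun c => (hM.gradedMul_self_le c).trans (hMK c)
    have hstep : N ((k + 1 : ℕ) : ZMod p) ≤ highPart K (k + 1) ((k + 1 : ℕ) : ZMod p) := by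
      refine (AddSubgroup.closure_le _).mpr ?_
      rintro _ ⟨a, b, x, hx, y, hy, hab, rfl⟩
      exact bracket_mem_highPart_succ hK h0 hk (hMK a hx) (hMH b hy) hab
    have hN0 : N 0 = ⊥ := le_bot_iff.mp ((hNK 0).trans h0.le)
    have hgen : ∀ (a : ZMod p) (x : L), k < a.val → x ∈ N a → x ∈ highPart K (k + 1) a := by
      intro a x ha hx
      rcases eq_or_lt_of_le (Nat.succ_le_of_lt ha) with he | he
      · have hae : a = ((k + 1 : ℕ) : ZMod p) :=
          ZMod.val_injective p (he.symm.trans (ZMod.val_natCast_of_lt hk).symm)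
        subst hae
        exact hstep hx
      · exact AddSubgroup.subset_closure (HighMono.base he (hNK a hx))
    have hHN : ∀ c, highPart N k c ≤ highPart K (k + 1) c := by
      intro c
      refine (AddSubgroup.closure_le _).mpr fun x hx => ?_
      induction hx with
      | base ha hx => exact hgen _ _ ha hx
      | step _ ha hx ih => exact isBracketClosed_highPart K (k + 1) _ _ _ ih _ (hgen _ _ ha hx)
    intro c
    have h1 : derivedFamily (2 ^ (k + 1) - 1) K = derivedFamily (2 ^ k - 1) N := by
      have h2 : 2 ^ (k + 1) - 1 = (2 ^ k - 1) + ((2 ^ k - 1) + 1) := by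
        have := Nat.two_pow_pos k
        rw [pow_succ]
        omega
      rw [h2, derivedFamily_add, ← hMdef]
      rfl
    rw [h1]
    exact (ih hM.gradedMul_self hN0 (by omega) c).trans (hHN c)

/-- Kreknin: the derived length is at most `2 ^ (p - 1) - 1`. -/
theorem derivedFamily_eq_bot {K : ZMod p → AddSubgroup L} (hK : IsBracketClosed K)
    (h0 : K 0 = ⊥) (c : ZMod p) : derivedFamily (2 ^ (p - 1) - 1) K c = ⊥ := by
  have hp := NeZero.pos p
  refine le_bot_iff.mp ((derivedFamily_le_highPart hK h0 (by omega) c).trans ?_)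
  refine (AddSubgroup.closure_le _).mpr fun x hx => ?_
  exfalso
  induction hx with
  | @base a x ha _ => have := ZMod.val_lt a; omega
  | step _ _ _ ih => exact ih

/-! ### Kostrikin's theorem -/

theorem foldl_lie_zero (l : List (ZMod p × L)) :
    l.foldl (fun z y => ⁅z, y.2⁆) (0 : L) = 0 := by
  induction l with
  | nil => rfl
  | cons y l ih => rw [List.foldl_cons, zero_lie]; exact ih

theorem foldl_lie_add (l : List (ZMod p × L)) (u v : L) :
    l.foldl (fun z y => ⁅z, y.2⁆) (u + v)
      = l.foldl (fun z y => ⁅z, y.2⁆) u + l.foldl (fun z y => ⁅z, y.2⁆) v := by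
  induction l generalizing u v with
  | nil => rfl
  | cons y l ih => simp only [List.foldl_cons, add_lie, ih]

theorem foldl_lie_neg (l : List (ZMod p × L)) (u : L) :
    l.foldl (fun z y => ⁅z, y.2⁆) (-u) = -l.foldl (fun z y => ⁅z, y.2⁆) u := by
  induction l generalizing u with
  | nil => rfl
  | cons y l ih => simp only [List.foldl_cons, neg_lie, ih]

/-- Products of `F` with `r` elements of `K` are sums of left-normed products. -/
theorem gradedPow_le_of_foldl {F K T : ZMod p → AddSubgroup L} (r : ℕ)
    (h : ∀ a, ∀ x ∈ F a, ∀ l : List (ZMod p × L), l.length = r → (∀ y ∈ l, y.2 ∈ K y.1) →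
      l.foldl (fun z y => ⁅z, y.2⁆) x ∈ T (a + (l.map Prod.fst).sum)) (c : ZMod p) :
    gradedPow F K r c ≤ T c := by
  induction r generalizing T c with
  | zero =>
    intro x hx
    simpa using h c x hx [] rfl (by simp)
  | succ r ih =>
    refine gradedMul_le (fun a b x hx y hy => ?_) c
    let U : ZMod p → AddSubgroup L := fun a =>
      { carrier := {x | ⁅x, y⁆ ∈ T (a + b)}
        add_mem' := fun {u v} hu hv => by
          simp only [Set.mem_ofPred_eq] at hu hv ⊢
          rw [add_lie]; exact add_mem hu hv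
        zero_mem' := by
          simp only [Set.mem_ofPred_eq]
          rw [zero_lie]; exact zero_mem _
        neg_mem' := fun {u} hu => by
          simp only [Set.mem_ofPred_eq] at hu ⊢
          rw [neg_lie]; exact neg_mem hu }
    refine ih (T := U) (fun a' x' hx' l hl hmem => ?_) a hx
    show ⁅_, y⁆ ∈ T _
    have h1 := h a' x' hx' (l ++ [(b, y)]) (by simp [hl]) (by
      intro z hz
      rcases List.mem_append.mp hz with hz | hz
      · exact hmem z hz
      · rw [List.mem_singleton.mp hz]; exact hy)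
    simpa [List.foldl_append, add_assoc] using h1

theorem foldl_lie_mem {K T : ZMod p → AddSubgroup L}
    (hT : ∀ a b, ∀ x ∈ T a, ∀ y ∈ K b, ⁅x, y⁆ ∈ T (a + b)) :
    ∀ (l : List (ZMod p × L)), (∀ y ∈ l, y.2 ∈ K y.1) → ∀ a, ∀ x ∈ T a,
      l.foldl (fun z y => ⁅z, y.2⁆) x ∈ T (a + (l.map Prod.fst).sum) := by
  intro l
  induction l with
  | nil => intro _ a x hx; simpa using hx
  | cons y l ih =>
    intro hl a x hx
    rw [List.foldl_cons, List.map_cons, List.sum_cons, ← add_assoc]
    exact ih (fun z hz => hl z (List.mem_cons_of_mem _ hz)) _ _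
      (hT _ _ x hx _ (hl y List.mem_cons_self))

/-- Reordering the factors changes a left-normed product by an element of `T`, if `T` absorbs
the products of `I` with the derived family. -/
theorem foldl_lie_perm {K I T : ZMod p → AddSubgroup L}
    (hI : ∀ a b, ∀ x ∈ I a, ∀ y ∈ K b, ⁅x, y⁆ ∈ I (a + b))
    (hT : ∀ a b, ∀ x ∈ T a, ∀ y ∈ K b, ⁅x, y⁆ ∈ T (a + b))
    (hIT : ∀ a b, ∀ x ∈ I a, ∀ y ∈ gradedMul K K b, ⁅x, y⁆ ∈ T (a + b))
    {l l' : List (ZMod p × L)} (h : l.Perm l') :
    (∀ y ∈ l, y.2 ∈ K y.1) → ∀ a, ∀ x ∈ I a,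
      l.foldl (fun z y => ⁅z, y.2⁆) x - l'.foldl (fun z y => ⁅z, y.2⁆) x
        ∈ T (a + (l.map Prod.fst).sum) := by
  induction h with
  | nil => intro _ a x _; simp
  | @cons y l₁ l₂ _ ih =>
    intro hl a x hx
    rw [List.foldl_cons, List.foldl_cons, List.map_cons, List.sum_cons, ← add_assoc]
    exact ih (fun z hz => hl z (List.mem_cons_of_mem _ hz)) _ _
      (hI _ _ x hx _ (hl y List.mem_cons_self))
  | swap u v l =>
    intro hl a x hx
    have hu : u.2 ∈ K u.1 := hl u (by simp)
    have hv : v.2 ∈ K v.1 := hl v (by simp)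
    have h1 : ⁅⁅x, v.2⁆, u.2⁆ - ⁅⁅x, u.2⁆, v.2⁆ = ⁅x, ⁅v.2, u.2⁆⁆ := (lie_lie_expand _ _ _).symm
    simp only [List.foldl_cons, List.map_cons, List.sum_cons]
    rw [sub_eq_add_neg, ← foldl_lie_neg, ← foldl_lie_add, ← sub_eq_add_neg, h1, ← add_assoc v.1,
      ← add_assoc a]
    exact foldl_lie_mem hT l (fun z hz => hl z (by simp [hz])) _ _
      (hIT _ _ x hx _ (bracket_mem_gradedMul hv hu))
  | @trans l₁ l₂ l₃ h₁₂ _ ih₁ ih₂ =>
    intro hl a x hx
    have h2 := ih₂ (fun z hz => hl z (h₁₂.mem_iff.mpr hz)) a x hx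
    rw [← (h₁₂.map Prod.fst).sum_eq] at h2
    have h3 := add_mem (ih₁ hl a x hx) h2
    rwa [sub_add_sub_cancel] at h3

section Prime

variable [Fact p.Prime]

/-- The sums of sublists of a list of nonzero residues. -/
theorem card_subset_sums_ge (l : List (ZMod p)) (hl : ∀ y ∈ l, y ≠ 0) :
    ∃ S : Finset (ZMod p), (∀ t ∈ S, ∃ l₁ : List (ZMod p), l₁.Sublist l ∧ l₁.sum = t) ∧
      min p (l.length + 1) ≤ S.card := by
  classical
  induction l with
  | nil =>
    refine ⟨{0}, fun t ht => ⟨[], List.Sublist.refl _, by simp [Finset.mem_singleton.mp ht]⟩, ?_⟩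
    simp
  | cons y l ih =>
    obtain ⟨S, hS, hcard⟩ := ih fun z hz => hl z (List.mem_cons_of_mem _ hz)
    refine ⟨S ∪ S.image (y + ·), fun t ht => ?_, ?_⟩
    · rcases Finset.mem_union.mp ht with ht | ht
      · obtain ⟨l₁, h1, h2⟩ := hS t ht
        exact ⟨l₁, h1.cons _, h2⟩
      · obtain ⟨u, hu, rfl⟩ := Finset.mem_image.mp ht
        obtain ⟨l₁, h1, h2⟩ := hS u hu
        exact ⟨y :: l₁, h1.cons_cons y, by rw [List.sum_cons, h2]⟩
    · by_cases hsub : S.image (y + ·) ⊆ S
      · have hne : S.Nonempty := by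
          rw [← Finset.card_pos]
          have := (Fact.out : p.Prime).pos
          omega
        obtain ⟨s, hs⟩ := hne
        have hmul : ∀ n : ℕ, (n : ZMod p) * y + s ∈ S := by
          intro n
          induction n with
          | zero => simpa using hs
          | succ n ihn =>
            have h1 := hsub (Finset.mem_image_of_mem _ ihn)
            rw [show ((n + 1 : ℕ) : ZMod p) * y + s = y + ((n : ZMod p) * y + s) by push_cast; ring]
            exact h1
        have huniv : (Finset.univ : Finset (ZMod p)) ⊆ S := by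
          intro t _
          have hy : y ≠ 0 := hl y List.mem_cons_self
          have h1 := hmul ((t - s) / y).val
          rwa [ZMod.natCast_zmod_val, div_mul_cancel₀ _ hy, sub_add_cancel] at h1
        calc min p ((y :: l).length + 1) ≤ p := min_le_left _ _
          _ = (Finset.univ : Finset (ZMod p)).card := by simp
          _ ≤ _ := Finset.card_le_card (huniv.trans Finset.subset_union_left)
      · have hlt : S.card < (S ∪ S.image (y + ·)).card :=
          Finset.card_lt_card (Finset.ssubset_iff_subset_ne.mpr ⟨Finset.subset_union_left,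
            fun he => hsub fun t ht => by rw [he]; exact Finset.mem_union_right _ ht⟩)
        simp only [List.length_cons]
        omega

/-- `p - 1` factors move `I` into `T`. -/
theorem gradedPow_pred_le {K I T : ZMod p → AddSubgroup L} (h0 : K 0 = ⊥)
    (hI : ∀ a b, ∀ x ∈ I a, ∀ y ∈ K b, ⁅x, y⁆ ∈ I (a + b)) (hI0 : I 0 = ⊥)
    (hT : ∀ a b, ∀ x ∈ T a, ∀ y ∈ K b, ⁅x, y⁆ ∈ T (a + b))
    (hIT : ∀ a b, ∀ x ∈ I a, ∀ y ∈ gradedMul K K b, ⁅x, y⁆ ∈ T (a + b)) (c : ZMod p) :
    gradedPow I K (p - 1) c ≤ T c := by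
  classical
  refine gradedPow_le_of_foldl (p - 1) (fun a x hx l hlen hl => ?_) c
  by_cases hzero : ∃ y ∈ l, y.1 = 0
  · obtain ⟨y, hy, hy0⟩ := hzero
    obtain ⟨s, t, rfl⟩ := List.mem_iff_append.mp hy
    have h1 : y.2 = 0 := by
      have h2 := hl y (by simp)
      rwa [hy0, h0, AddSubgroup.mem_bot] at h2
    rw [List.foldl_append, List.foldl_cons, h1, lie_zero, foldl_lie_zero]
    exact zero_mem _
  push Not at hzero
  obtain ⟨S, hS, hcard⟩ := card_subset_sums_ge (l.map Prod.fst) (by
    intro z hz
    obtain ⟨y, hy, rfl⟩ := List.mem_map.mp hz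
    exact hzero y hy)
  have hSuniv : S = Finset.univ := by
    refine Finset.eq_univ_of_card S (le_antisymm (Finset.card_le_univ S) ?_)
    have := (Fact.out : p.Prime).pos
    simp only [List.length_map, hlen] at hcard
    rw [ZMod.card]
    omega
  obtain ⟨l₀, hsub, hsum⟩ := hS (-a) (hSuniv ▸ Finset.mem_univ _)
  obtain ⟨l₁, hl₁, rfl⟩ := List.sublist_map_iff.mp hsub
  obtain ⟨l₂, hperm⟩ : ∃ l₂, l.Perm (l₁ ++ l₂) := hl₁.exists_perm_append
  have h1 := foldl_lie_perm hI hT hIT hperm hl a x hx
  have h2 : l₁.foldl (fun z y => ⁅z, y.2⁆) x = 0 := by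
    have h3 := foldl_lie_mem hI l₁ (fun y hy => hl y (hl₁.subset hy)) a x hx
    rwa [hsum, add_neg_cancel, hI0, AddSubgroup.mem_bot] at h3
  rw [List.foldl_append, h2, foldl_lie_zero, sub_zero] at h1
  exact h1

/-- Kostrikin: a soluble such family is nilpotent. -/
theorem gradedPow_eq_bot_of_derived (d : ℕ) :
    ∀ {K : ZMod p → AddSubgroup L}, IsBracketClosed K → K 0 = ⊥ →
      (∀ c, derivedFamily d K c = ⊥) →
      ∀ c, gradedPow K K (∑ i ∈ Finset.range d, (p - 1) ^ i) c = ⊥ := by
  induction d with
  | zero => intro K _ _ h c; exact h c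
  | succ d ih =>
    intro K hK h0 hd
    set D := gradedMul K K with hD
    have hDD : IsBracketClosed D := hK.gradedMul_self
    have hD0 : D 0 = ⊥ := le_bot_iff.mp ((hK.gradedMul_self_le 0).trans h0.le)
    have hend := ih hDD hD0 hd
    -- every term of the series of `D` absorbs `K`
    have hideal : ∀ j a b, ∀ x ∈ gradedPow D D j a, ∀ y ∈ K b,
        ⁅x, y⁆ ∈ gradedPow D D j (a + b) := by
      intro j
      induction j with
      | zero => exact fun a b x hx y hy => bracket_mem_gradedMul (hK.gradedMul_self_le a hx) hy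
      | succ j ihj =>
        intro a b x hx y hy
        induction hx using AddSubgroup.closure_induction with
        | mem w hw =>
          obtain ⟨s, t, u, hu, v, hv, rfl, rfl⟩ := hw
          rw [lie_lie]
          refine sub_mem ?_ ?_
          · rw [add_assoc]
            exact bracket_mem_gradedMul hu (bracket_mem_gradedMul (hK.gradedMul_self_le t hv) hy)
          · rw [← lie_skew v ⁅u, y⁆, show s + t + b = s + b + t by abel]
            exact neg_mem (bracket_mem_gradedMul (ihj s b u hu y hy) hv)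
        | zero => rw [zero_lie]; exact zero_mem _
        | add u v _ _ hu hv => rw [add_lie]; exact add_mem hu hv
        | neg u _ hu => rw [neg_lie]; exact neg_mem hu
    have hzero : ∀ j, gradedPow D D j 0 = ⊥ := by
      intro j
      refine le_bot_iff.mp (le_trans ?_ hD0.le)
      have hle : ∀ j c, gradedPow D D j c ≤ D c := by
        intro j
        induction j with
        | zero => exact fun c => le_rfl
        | succ j ihj =>
          intro c
          exact le_trans (gradedMul_mono (K := D) (K' := D) ihj (fun _ => le_rfl) c)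
            (hDD.gradedMul_self_le c)
      exact hle j 0
    have hpow : ∀ m c, gradedPow K K (1 + (p - 1) * m) c ≤ gradedPow D D m c := by
      intro m
      induction m with
      | zero => exact fun c => le_rfl
      | succ m ihm =>
        have hadd : ∀ r n c, gradedPow K K (n + r) c
            = gradedPow (gradedPow K K n) K r c := by
          intro r
          induction r with
          | zero => intro n c; rfl
          | succ r ihr =>
            intro n c
            show gradedMul (gradedPow K K (n + r)) K c = _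
            rw [show gradedPow K K (n + r) = gradedPow (gradedPow K K n) K r from funext (ihr n)]
            rfl
        have hmono : ∀ {F F' : ZMod p → AddSubgroup L}, (∀ a, F a ≤ F' a) →
            ∀ r c, gradedPow F K r c ≤ gradedPow F' K r c := by
          intro F F' h r
          induction r with
          | zero => exact h
          | succ r ihr => exact gradedMul_mono ihr fun _ => le_rfl
        intro c
        rw [show 1 + (p - 1) * (m + 1) = 1 + (p - 1) * m + (p - 1) by ring, hadd]
        refine (hmono ihm _ c).trans (gradedPow_pred_le h0 (hideal m) (hzero m)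
          (hideal (m + 1)) (fun a b x hx y hy => bracket_mem_gradedMul hx hy) c)
    intro c
    rw [geom_sum_succ, add_comm]
    exact le_bot_iff.mp ((hpow _ c).trans (hend c).le)

/-- A graded Lie ring with trivial zero component: bound for the length of nonzero products. -/
theorem gradedPow_eq_bot {K : ZMod p → AddSubgroup L} (hK : IsBracketClosed K) (h0 : K 0 = ⊥)
    (c : ZMod p) :
    gradedPow K K (∑ i ∈ Finset.range (2 ^ (p - 1) - 1), (p - 1) ^ i) c = ⊥ :=
  gradedPow_eq_bot_of_derived _ hK h0 (derivedFamily_eq_bot hK h0) c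

/-- For `p = 2` all products of two elements vanish. -/
theorem gradedPow_one_eq_bot (hp : p = 2) {K : ZMod p → AddSubgroup L} (hK : IsBracketClosed K)
    (h0 : K 0 = ⊥) (c : ZMod p) : gradedPow K K 1 c = ⊥ := by
  subst hp
  refine le_bot_iff.mp (gradedMul_le (T := fun _ => ⊥) (fun a b x hx y hy => ?_) c)
  have hx' : x ∈ K a := hx
  have h1 := hK a b x hx' y hy
  rw [AddSubgroup.mem_bot]
  rcases zmod_two_cases a b with h | h | h
  · rw [h, h0, AddSubgroup.mem_bot] at hx'
    rw [hx', zero_lie]
  · rw [h, h0, AddSubgroup.mem_bot] at hy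
    rw [hy, lie_zero]
  · rwa [h, h0, AddSubgroup.mem_bot] at h1

/-- For `p = 3` all products of three elements vanish. -/
theorem gradedPow_two_eq_bot (hp : p = 3) {K : ZMod p → AddSubgroup L} (hK : IsBracketClosed K)
    (h0 : K 0 = ⊥) (c : ZMod p) : gradedPow K K 2 c = ⊥ := by
  subst hp
  refine le_bot_iff.mp (gradedPow_le_of_foldl (T := fun _ => ⊥) 2 (fun a x hx l hlen hl => ?_) c)
  obtain ⟨⟨b, y⟩, ⟨e, z⟩, rfl⟩ := List.length_eq_two.mp hlen
  have hy : y ∈ K b := hl (b, y) (by simp)
  have hz : z ∈ K e := hl (e, z) (by simp)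
  show ⁅⁅x, y⁆, z⁆ ∈ (⊥ : AddSubgroup L)
  rw [AddSubgroup.mem_bot]
  have hzero : ∀ d : ZMod 3, d = 0 → ∀ w ∈ K d, w = 0 := by
    rintro d rfl w hw
    rwa [h0, AddSubgroup.mem_bot] at hw
  have hcases := zmod_three_cases a b e
  rcases hcases with h | h | h | h | h | ⟨h, h'⟩
  · rw [hzero a h x hx, zero_lie, zero_lie]
  · rw [hzero b h y hy, lie_zero, zero_lie]
  · rw [hzero e h z hz, lie_zero]
  · rw [hzero _ h _ (hK a b x hx y hy), zero_lie]
  · exact hzero _ h _ (hK _ _ _ (hK a b x hx y hy) z hz)
  · rw [lie_lie, hzero _ h' _ (hK b e y hy z hz), hzero _ h _ (hK a e x hx z hz), lie_zero,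
      lie_zero, sub_zero]

end Prime

end CfsgLib.Higman
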