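import Mathlib
import Cfsg.Agent.Lib.Higman.Eigen

/-!
# Lie rings with an automorphism of prime order whose fixed points are killed by `m`

Multiples by `m` of the eigenspaces over the cyclotomic extension form a graded family with
trivial zero component, so a bounded multiple of a term of the lower central series vanishes.
-/

set_option linter.unusedSectionVars false
set_option autoImplicit false

open scoped TensorProduct

namespace CfsgLib.Higman

variable {p : ℕ} [Fact p.Prime]

/-- The class bound of the theorem of Higman, Kreknin and Kostrikin. -/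
def higmanBound (p : ℕ) : ℕ := ∑ i ∈ Finset.range (2 ^ (p - 1) - 1), (p - 1) ^ i

theorem nsmul_mem_gradedPow {L : Type*} [LieRing L] {K : ZMod p → AddSubgroup L} {M : ℕ}
    (hM : ∀ x : L, M • x ∈ ⨆ a, K a) :
    ∀ n, ∀ x ∈ lieSeries L n, M ^ (n + 1) • x ∈ ⨆ c, gradedPow K K n c := by
  intro n
  induction n with
  | zero => intro x _; rw [zero_add, pow_one]; exact hM x
  | succ n ih =>
    intro x hx
    induction hx using AddSubgroup.closure_induction with
    | mem w hw =>
      obtain ⟨u, hu, y, rfl⟩ := hw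
      have he : M ^ (n + 1 + 1) • ⁅u, y⁆ = ⁅M ^ (n + 1) • u, M • y⁆ := by
        rw [nsmul_lie, lie_nsmul, ← mul_nsmul', pow_succ]
      rw [he]
      refine AddSubgroup.iSup_induction
        (C := fun u' => ⁅u', M • y⁆ ∈ ⨆ c, gradedPow K K (n + 1) c)
        (fun c => gradedPow K K n c) (ih u hu) ?_ (by simp) ?_
      · intro a u' hu'
        refine AddSubgroup.iSup_induction (C := fun v => ⁅u', v⁆ ∈ ⨆ c, gradedPow K K (n + 1) c)
          K (hM y) ?_ (by simp) ?_
        · intro b v hv
          exact AddSubgroup.mem_iSup_of_mem (a + b) (bracket_mem_gradedMul hu' hv)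
        · intro v w hv hw
          show ⁅u', v + w⁆ ∈ _
          rw [lie_add]
          exact add_mem hv hw
      · intro u' w hu' hw
        show ⁅u' + w, M • y⁆ ∈ _
        rw [add_lie]
        exact add_mem hu' hw
    | zero => rw [smul_zero]; exact zero_mem _
    | add u v _ _ hu hv => rw [smul_add]; exact add_mem hu hv
    | neg u _ hu => rw [smul_neg]; exact neg_mem hu

theorem nsmul_lieSeries_eq_zero_of_root {A L : Type*} [CommRing A] [LieRing L] [LieAlgebra A L]
    (ω : A) (hω : ω ^ p = 1) (hωsum : ∑ i ∈ Finset.range p, ω ^ i = 0) (T : L →ₗ[A] L)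
    (hTlie : ∀ x y, T ⁅x, y⁆ = ⁅T x, T y⁆) (hTp : ∀ x, (⇑T)^[p] x = x) (m : ℕ)
    (hfix : ∀ x, T x = x → m • x = 0) :
    ∀ x ∈ lieSeries L (higmanBound p), (m * p) ^ (higmanBound p + 1) • x = 0 := by
  classical
  haveI : NeZero p := ⟨(Fact.out : p.Prime).ne_zero⟩
  set χ : AddChar (ZMod p) A := AddChar.zmodChar p hω with hχ
  have hχsum : ∑ i : ZMod p, χ i = 0 := by
    rw [← hωsum]
    refine Finset.sum_bij (fun i _ => i.val) (fun i _ => Finset.mem_range.mpr i.val_lt)
      (fun i _ j _ h => ZMod.val_injective p h)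
      (fun m hm => ⟨(m : ZMod p), Finset.mem_univ _, ZMod.val_natCast_of_lt (Finset.mem_range.mp hm)⟩)
      (fun i _ => by rw [hχ, AddChar.zmodChar_apply])
  let E : ZMod p → AddSubgroup L := fun a =>
    { carrier := {x | T x = χ a • x}
      add_mem' := fun {u v} hu hv => by
        simp only [Set.mem_ofPred_eq] at hu hv ⊢
        rw [map_add, hu, hv, smul_add]
      zero_mem' := by simp only [Set.mem_ofPred_eq, map_zero, smul_zero]
      neg_mem' := fun {u} hu => by
        simp only [Set.mem_ofPred_eq] at hu ⊢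
        rw [map_neg, hu, smul_neg] }
  let K : ZMod p → AddSubgroup L := fun a => (E a).map (nsmulAddMonoidHom m)
  have hK : IsBracketClosed K := by
    rintro a b _ ⟨x, hx, rfl⟩ _ ⟨y, hy, rfl⟩
    have hxy : ⁅x, y⁆ ∈ E (a + b) := by
      show T ⁅x, y⁆ = χ (a + b) • ⁅x, y⁆
      rw [hTlie, show T x = χ a • x from hx, show T y = χ b • y from hy, smul_lie, lie_smul,
        smul_smul, AddChar.map_add_eq_mul]
    refine ⟨m • ⁅x, y⁆, (E (a + b)).nsmul_mem hxy m, ?_⟩
    show m • (m • ⁅x, y⁆) = ⁅m • x, m • y⁆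
    rw [nsmul_lie, lie_nsmul]
  have hK0 : K 0 = ⊥ := by
    rw [eq_bot_iff]
    rintro _ ⟨x, hx, rfl⟩
    refine AddSubgroup.mem_bot.mpr (hfix x ?_)
    rw [show T x = χ 0 • x from hx, AddChar.map_zero_eq_one, one_smul]
  have hM : ∀ y : L, (m * p) • y ∈ ⨆ a, K a := by
    intro y
    let F : ZMod p → L := fun j => (⇑T)^[j.val] y
    have hF : ∀ j, T (F j) = F (j + 1) := fun j => by
      show T ((⇑T)^[j.val] y) = (⇑T)^[(j + 1).val] y
      rw [← Function.iterate_succ_apply' (⇑T)]
      rcases lt_or_ge (j.val + 1) p with h | h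
      · rw [ZMod.val_add, ZMod.val_one, Nat.mod_eq_of_lt h]
      · have hj : j.val + 1 = p := le_antisymm j.val_lt h
        rw [ZMod.val_add, ZMod.val_one, hj, Nat.mod_self, Nat.succ_eq_add_one, hj, hTp]
        rfl
    let e : ZMod p → L := fun a => ∑ j, χ (-(a * j)) • F j
    have he : ∀ a, e a ∈ E a := fun a => by
      show T (∑ j, χ (-(a * j)) • F j) = χ a • ∑ j, χ (-(a * j)) • F j
      rw [map_sum, Finset.smul_sum]
      refine Fintype.sum_equiv (Equiv.addRight 1) _ _ fun j => ?_
      rw [map_smul, hF, smul_smul, ← AddChar.map_add_eq_mul]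
      show _ = χ (a + -(a * (j + 1))) • F (j + 1)
      rw [show a + -(a * (j + 1)) = -(a * j) by ring]
    have hsum : ∑ a, e a = p • y := by
      simp only [e]
      rw [Finset.sum_comm]
      simp only [← Finset.sum_smul]
      rw [Finset.sum_eq_single (0 : ZMod p)]
      · simp [F, ZMod.card, AddChar.map_zero_eq_one, Nat.cast_smul_eq_nsmul]
      · intro j _ hj
        have h1 : ∑ a : ZMod p, χ (-(a * j)) = ∑ a : ZMod p, χ a :=
          Fintype.sum_bijective (fun a => -(a * j))
            (Finite.injective_iff_bijective.mp fun u v h => mul_right_cancel₀ hj (neg_inj.mp h))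
            _ _ fun a => rfl
        rw [h1, hχsum, zero_smul]
      · simp
    rw [mul_nsmul', ← hsum, Finset.smul_sum]
    exact sum_mem fun a _ => AddSubgroup.mem_iSup_of_mem a ⟨e a, he a, rfl⟩
  intro x hx
  have h := nsmul_mem_gradedPow hM _ x hx
  have hbot : (⨆ c, gradedPow K K (higmanBound p) c) = ⊥ :=
    iSup_eq_bot.2 (gradedPow_eq_bot hK hK0)
  rwa [hbot, AddSubgroup.mem_bot] at h

/-- Higman's theorem with bounded fixed points. -/
theorem nsmul_lieSeries_eq_zero {L : Type*} [LieRing L] (T : L →+ L)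
    (hTlie : ∀ x y, T ⁅x, y⁆ = ⁅T x, T y⁆) (hTp : ∀ x, (⇑T)^[p] x = x) (m : ℕ)
    (hfix : ∀ x, T x = x → m • x = 0) :
    ∀ x ∈ lieSeries L (higmanBound p), (m * p) ^ (higmanBound p + 1) • x = 0 := by
  classical
  set g : Polynomial ℤ := Polynomial.cyclotomic p ℤ with hg
  have hmon : g.Monic := Polynomial.cyclotomic.monic p ℤ
  set ω : AdjoinRoot g := AdjoinRoot.root g with hωdef
  have hωsum : ∑ i ∈ Finset.range p, ω ^ i = 0 := by
    have h1 : (Polynomial.aeval (AdjoinRoot.root g)) g = 0 := by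
      rw [AdjoinRoot.aeval_eq, AdjoinRoot.mk_self]
    have h2 : g = ∑ i ∈ Finset.range p, Polynomial.X ^ i := Polynomial.cyclotomic_prime ℤ p
    conv_lhs at h1 => arg 2; rw [h2]
    simpa using h1
  have hω : ω ^ p = 1 := by
    have h1 := geom_sum_mul ω p
    rw [hωsum, zero_mul] at h1
    exact sub_eq_zero.mp h1.symm
  let b := (AdjoinRoot.powerBasis' hmon).basis
  set T' : AdjoinRoot g ⊗[ℤ] L →ₗ[AdjoinRoot g] AdjoinRoot g ⊗[ℤ] L :=
    T.toIntLinearMap.baseChange (AdjoinRoot g) with hT'
  have hT'tmul : ∀ s x, T' (s ⊗ₜ x) = s ⊗ₜ T x := fun s x => LinearMap.baseChange_tmul _ _ _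
  let coord : Fin (AdjoinRoot.powerBasis' hmon).dim → AdjoinRoot g ⊗[ℤ] L →ₗ[ℤ] L := fun i =>
    (TensorProduct.lid ℤ L).toLinearMap ∘ₗ (b.coord i).rTensor L
  have hcoord : ∀ i s (x : L), coord i (s ⊗ₜ[ℤ] x) = b.repr s i • x := fun i s x => by
    show (TensorProduct.lid ℤ L) ((b.coord i).rTensor L (s ⊗ₜ x)) = _
    rw [LinearMap.rTensor_tmul, TensorProduct.lid_tmul, Module.Basis.coord_apply]
  have hcoordT : ∀ i z, coord i (T' z) = T (coord i z) := by
    intro i z
    induction z using TensorProduct.induction_on with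
    | zero => simp
    | tmul s x => rw [hT'tmul, hcoord, hcoord, map_zsmul]
    | add u v hu hv => simp only [map_add, hu, hv]
  have hrepr : ∀ z, z = ∑ i, b i ⊗ₜ[ℤ] coord i z := by
    intro z
    induction z using TensorProduct.induction_on with
    | zero => simp
    | tmul s x =>
      conv_lhs => rw [← b.sum_repr s, TensorProduct.sum_tmul]
      refine Finset.sum_congr rfl fun i _ => ?_
      rw [hcoord, TensorProduct.smul_tmul]
    | add u v hu hv =>
      simp only [map_add, TensorProduct.tmul_add, Finset.sum_add_distrib, ← hu, ← hv]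
  have hfix' : ∀ z, T' z = z → m • z = 0 := by
    intro z hz
    rw [hrepr z, Finset.smul_sum]
    refine Finset.sum_eq_zero fun i _ => ?_
    rw [← TensorProduct.tmul_smul, hfix (coord i z) (by rw [← hcoordT, hz]), TensorProduct.tmul_zero]
  have hlz : ∀ u : AdjoinRoot g ⊗[ℤ] L, ⁅u, (0 : AdjoinRoot g ⊗[ℤ] L)⁆ = 0 := fun u => lie_zero u
  have hla : ∀ u c d : AdjoinRoot g ⊗[ℤ] L, ⁅u, c + d⁆ = ⁅u, c⁆ + ⁅u, d⁆ :=
    fun u c d => lie_add u c d
  have hTlie' : ∀ u v, T' ⁅u, v⁆ = ⁅T' u, T' v⁆ := by
    intro u v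
    induction u using TensorProduct.induction_on with
    | zero =>
      exact ((congrArg T' (zero_lie v)).trans (map_zero T')).trans
        ((congrArg (fun w => ⁅w, T' v⁆) (map_zero T')).trans (zero_lie _)).symm
    | tmul s x =>
      induction v using TensorProduct.induction_on with
      | zero =>
        exact ((congrArg T' (hlz _)).trans (map_zero T')).trans
          ((congrArg (fun w => ⁅T' (s ⊗ₜ x), w⁆) (map_zero T')).trans (hlz _)).symm
      | tmul t y =>
        rw [hT'tmul, hT'tmul, LieAlgebra.ExtendScalars.bracket_tmul,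
          LieAlgebra.ExtendScalars.bracket_tmul, hT'tmul, hTlie]
      | add c d hc hd =>
        refine ((congrArg T' (hla _ c d)).trans (map_add T' _ _)).trans ?_
        rw [hc, hd]
        exact ((congrArg (fun w => ⁅T' (s ⊗ₜ x), w⁆) (map_add T' c d)).trans (hla _ _ _)).symm
    | add c d hc hd =>
      refine ((congrArg T' (add_lie c d v)).trans (map_add T' _ _)).trans ?_
      rw [hc, hd]
      exact ((congrArg (fun w => ⁅w, T' v⁆) (map_add T' c d)).trans (add_lie _ _ _)).symm
  have hTp' : ∀ z, (⇑T')^[p] z = z := by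
    have hit : ∀ n s x, (⇑T')^[n] (s ⊗ₜ x) = s ⊗ₜ[ℤ] (⇑T)^[n] x := by
      intro n
      induction n with
      | zero => simp
      | succ n ih => intro s x; rw [Function.iterate_succ_apply', Function.iterate_succ_apply',
          ih, hT'tmul]
    intro z
    induction z using TensorProduct.induction_on with
    | zero => exact Function.iterate_fixed (map_zero T') p
    | tmul s x => rw [hit, hTp]
    | add u v hu hv => rw [iterate_map_add, hu, hv]
  have h0 : 0 < (AdjoinRoot.powerBasis' hmon).dim := by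
    show 0 < g.natDegree
    rw [hg, Polynomial.natDegree_cyclotomic]
    exact Nat.totient_pos.mpr (Fact.out : p.Prime).pos
  have hb0 : b ⟨0, h0⟩ = 1 := by
    show (AdjoinRoot.powerBasis' hmon).basis ⟨0, h0⟩ = 1
    rw [PowerBasis.basis_eq_pow, pow_zero]
  have hseries : ∀ n x, x ∈ lieSeries L n →
      (1 : AdjoinRoot g) ⊗ₜ[ℤ] x ∈ lieSeries (AdjoinRoot g ⊗[ℤ] L) n := by
    intro n
    induction n with
    | zero => exact fun x _ => AddSubgroup.mem_top _
    | succ n ih =>
      intro x hx
      induction hx using AddSubgroup.closure_induction with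
      | mem u hu =>
        obtain ⟨c, hc, y, rfl⟩ := hu
        refine AddSubgroup.subset_closure ⟨_, ih c hc, (1 : AdjoinRoot g) ⊗ₜ[ℤ] y, ?_⟩
        simp [LieAlgebra.ExtendScalars.bracket_tmul]
      | zero => simp
      | add u v _ _ hu hv => rw [TensorProduct.tmul_add]; exact add_mem hu hv
      | neg u _ hu => rw [TensorProduct.tmul_neg]; exact neg_mem hu
  intro x hx
  have h1 := nsmul_lieSeries_eq_zero_of_root (p := p) ω hω hωsum T' hTlie' hTp' m hfix' _
    (hseries _ x hx)
  rw [← TensorProduct.tmul_smul] at h1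
  have h2 := congrArg (coord ⟨0, h0⟩) h1
  rw [map_zero, ← hb0] at h2
  simpa [hcoord] using h2

end CfsgLib.Higman
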