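import Cfsg.Agent.Lib.Higman.LcsRing
import Cfsg.Agent.Lib.Higman.FixedBoundLie
import Cfsg.Agent.S3781

/-!
# p-groups with an automorphism of order p with few fixed points

A bounded multiple kills a bounded term of the associated Lie ring, so a lower central factor of
bounded index has bounded order; applied to a deep term of the series this bounds the derived
length.
-/

set_option linter.style.haveILetI false
set_option linter.unusedSectionVars false
set_option autoImplicit false

namespace CfsgLib.Higman

universe u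

variable {p : ℕ} [Fact p.Prime]

/-- Fixed points on a quotient by an invariant normal subgroup are no more than in the group. -/
theorem card_fixed_quotient_le {G : Type*} [Group G] [Finite G] (α : G ≃* G) (N : Subgroup G)
    [N.Normal] (hN : ∀ g ∈ N, α g ∈ N) (β : G ⧸ N → G ⧸ N)
    (hβ : ∀ g : G, β (g : G ⧸ N) = (α g : G ⧸ N)) :
    Nat.card {q : G ⧸ N // β q = q} ≤ Nat.card {g : G // α g = g} := by
  classical
  -- pairs of a fixed coset and one of its elements
  have hmem : ∀ (q : {q : G ⧸ N // β q = q}) (n : N),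
      ((q.1.out * n : G))⁻¹ * α (q.1.out * n) ∈ N := by
    intro q n
    have h : q.1.out⁻¹ * α q.1.out ∈ N := by
      rw [← QuotientGroup.eq, ← hβ, QuotientGroup.out_eq', q.2]
    have := N.mul_mem (N.mul_mem (N.inv_mem n.2) h) (hN n n.2)
    rwa [show ((q.1.out * n : G))⁻¹ * α (q.1.out * n)
      = (n : G)⁻¹ * (q.1.out⁻¹ * α q.1.out) * α n by rw [map_mul]; group]
  let φ : {q : G ⧸ N // β q = q} × N → N := fun x => ⟨_, hmem x.1 x.2⟩
  haveI := Fintype.ofFinite N
  haveI := Fintype.ofFinite ({q : G ⧸ N // β q = q} × N)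
  have h : Nat.card ({q : G ⧸ N // β q = q} × N) ≤
      Nat.card {g : G // α g = g} * Nat.card N := by
    rw [Nat.card_eq_fintype_card, ← Finset.card_univ, Nat.card_eq_fintype_card (α := N),
      ← Finset.card_univ (α := N)]
    refine Finset.card_le_mul_card_image_of_maps_to (f := φ) (fun _ _ => Finset.mem_univ _) _
      fun x _ => ?_
    rcases Finset.eq_empty_or_nonempty (Finset.univ.filter fun y => φ y = x) with h0 | ⟨y₀, hy₀⟩
    · rw [h0]; simp
    have key : ∀ y, φ y = x → α ((y.1.1.out * y.2 : G) * (y₀.1.1.out * y₀.2 : G)⁻¹) =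
        (y.1.1.out * y.2 : G) * (y₀.1.1.out * y₀.2 : G)⁻¹ := by
      intro y hy
      have e : (y.1.1.out * y.2 : G)⁻¹ * α (y.1.1.out * y.2) =
          (y₀.1.1.out * y₀.2 : G)⁻¹ * α (y₀.1.1.out * y₀.2) :=
        congrArg Subtype.val (hy.trans (Finset.mem_filter.1 hy₀).2.symm)
      rw [map_mul α (y.1.1.out * y.2 : G), map_inv, inv_mul_eq_iff_eq_mul.1 e]
      group
    haveI := Fintype.ofFinite {g : G // α g = g}
    rw [Nat.card_eq_fintype_card]
    refine Finset.card_le_card_of_injOn (fun y => if hy : φ y = x then ⟨_, key y hy⟩ else ⟨1, map_one α⟩)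
      (fun _ _ => Finset.mem_univ _) ?_
    intro a ha b hb hab
    simp only [Finset.coe_filter, Finset.mem_univ, true_and, Set.mem_ofPred_eq] at ha hb
    simp only [dif_pos ha, dif_pos hb] at hab
    have e2 : (a.1.1.out * a.2 : G) = b.1.1.out * b.2 :=
      mul_right_cancel (congrArg Subtype.val hab)
    have e1 : a.1 = b.1 := by
      refine Subtype.ext ?_
      rw [← QuotientGroup.out_eq' a.1.1, ← QuotientGroup.out_eq' b.1.1,
        ← QuotientGroup.mk_mul_of_mem a.1.1.out a.2.2, ← QuotientGroup.mk_mul_of_mem b.1.1.out b.2.2,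
        e2]
    refine Prod.ext e1 (Subtype.ext ?_)
    rw [e1] at e2
    exact mul_left_cancel e2
  rw [Nat.card_prod] at h
  exact Nat.le_of_mul_le_mul_right h Nat.card_pos

/-- An abelian group of exponent dividing `p ^ E` with an endomorphism of period `p` fixing at
most `c` elements has at most `c ^ (p * E)` elements. -/
theorem card_le_of_fixed {A : Type*} [AddCommGroup A] [Finite A] (a : AddMonoid.End A)
    (hap : a ^ p = 1) (E : ℕ) (hE : ∀ x : A, p ^ E • x = 0) (c : ℕ)
    (hc : Nat.card {x : A // a x = x} ≤ c) : Nat.card A ≤ c ^ (p * E) := by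
  classical
  have hp : p.Prime := Fact.out
  set f : AddMonoid.End A := a - 1 with hf
  have hfp : f ^ (p * E) = 0 := by
    obtain ⟨r, hr⟩ := (Commute.one_right f).exists_add_pow_prime_eq hp
    rw [hf, sub_add_cancel, hap, one_pow, ← hf] at hr
    set s : AddMonoid.End A := f * 1 * r with hs
    have h1 : f ^ p = -((p : AddMonoid.End A) * s) := by
      rw [eq_neg_iff_add_eq_zero]
      have hr' : 1 = f ^ p + 1 + (p : AddMonoid.End A) * s := by
        rw [hs]; simpa [mul_assoc] using hr
      calc f ^ p + (p : AddMonoid.End A) * s = (f ^ p + 1 + (p : AddMonoid.End A) * s) - 1 := by abel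
        _ = 0 := by rw [← hr', sub_self]
    have hpE : ((p : AddMonoid.End A)) ^ E = 0 := by
      refine DFunLike.ext _ _ fun x => ?_
      rw [← Nat.cast_pow, AddMonoid.End.natCast_apply]
      exact hE x
    rw [pow_mul, h1, neg_pow, (Nat.cast_commute p s).mul_pow, hpE, zero_mul, mul_zero]
  let K : ℕ → AddSubgroup A := fun j =>
    { carrier := {w | (f ^ j) w = 0}
      zero_mem' := map_zero _
      add_mem' := fun {u w} hu hw => by
        show (f ^ j) (u + w) = 0
        rw [map_add, show (f ^ j) u = 0 from hu, show (f ^ j) w = 0 from hw, add_zero]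
      neg_mem' := fun {u} hu => by
        show (f ^ j) (-u) = 0
        rw [map_neg, show (f ^ j) u = 0 from hu, neg_zero] }
  have hker : Nat.card {w : A // f w = 0} ≤ c := by
    refine le_trans (le_of_eq ?_) hc
    refine Nat.card_congr (Equiv.subtypeEquivRight fun w => ?_)
    show a w - w = 0 ↔ a w = w
    exact sub_eq_zero
  have hbound : ∀ j, Nat.card (K j) ≤ c ^ j := by
    intro j
    induction j with
    | zero =>
      haveI : Subsingleton (K 0) := ⟨fun u w => Subtype.ext
        ((show (u : A) = 0 from u.2).trans (show (w : A) = 0 from w.2).symm)⟩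
      rw [pow_zero, Nat.card_unique]
    | succ j ih =>
      let g : K (j + 1) →+ K j :=
        AddMonoidHom.mk' (fun w => ⟨f (w : A), by
            show (f ^ j) (f (w : A)) = 0
            rw [← Function.comp_apply (f := ⇑(f ^ j)), ← AddMonoid.End.coe_mul, ← pow_succ]
            exact w.2⟩)
          (fun u w => Subtype.ext (map_add f _ _))
      rw [AddSubgroup.card_eq_card_quotient_mul_card_addSubgroup g.ker,
        Nat.card_congr (QuotientAddGroup.quotientKerEquivRange g).toEquiv, pow_succ]
      refine Nat.mul_le_mul ((Nat.card_le_card_of_injective _ Subtype.val_injective).trans ih)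
        (le_trans ?_ hker)
      refine Nat.card_le_card_of_injective (fun w => ⟨((w : K (j+1)) : A),
        congrArg Subtype.val w.2⟩) (fun u w h => Subtype.ext (Subtype.ext (congrArg Subtype.val h :)))
  refine le_trans (le_of_eq ?_) (hbound (p * E))
  exact Nat.card_congr ⟨fun w => ⟨w, DFunLike.congr_fun hfp w⟩, fun w => w.1, fun w => rfl,
    fun w => rfl⟩

section PGroup

variable {G : Type u} [Group G] [Finite G]

theorem map_mem_lcsTerm (α : MulAut G) {n : ℕ} {g : G} (hg : g ∈ lcsTerm G n) :
    α g ∈ lcsTerm G n := by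
  have h1 : α g ∈ (lcsTerm G n).map α.toMonoidHom := ⟨g, hg, rfl⟩
  rwa [Subgroup.map_lowerCentralSeries,
    Subgroup.map_top_of_surjective α.toMonoidHom α.surjective] at h1

open Classical in
/-- The endomorphism of a lower central factor. -/
noncomputable def factorEnd (α : MulAut G) (n : ℕ) : AddMonoid.End (LcsFactor G n) :=
  liftFactor (fun g => if h : g ∈ lcsTerm G n then
      Additive.ofMul (QuotientGroup.mk (⟨α g, map_mem_lcsTerm α h⟩ : lcsTerm G n)) else 0)
    (fun g hg h hh => by
      rw [dif_pos hg, dif_pos hh, dif_pos (mul_mem hg hh), ← ofMul_mul, ← QuotientGroup.mk_mul]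
      exact congrArg (fun w => Additive.ofMul (QuotientGroup.mk w)) (Subtype.ext (map_mul α g h)))
    fun g hg => by
      rw [dif_pos (Subgroup.lowerCentralSeries_antitone _ n.le_succ hg), ← ofMul_one,
        Additive.ofMul.injective.eq_iff, QuotientGroup.eq_one_iff, Subgroup.mem_subgroupOf]
      exact map_mem_lcsTerm α hg

theorem factorEnd_mk (α : MulAut G) (n : ℕ) (g : lcsTerm G n) :
    factorEnd α n (Additive.ofMul (QuotientGroup.mk g)) =
      Additive.ofMul (QuotientGroup.mk (⟨α g, map_mem_lcsTerm α g.2⟩ : lcsTerm G n)) := by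
  rw [factorEnd]
  exact (liftFactor_apply _ _ _ (g : G) g.2).trans (dif_pos g.2)

theorem factorEnd_pow (α : MulAut G) (n : ℕ) (hα : α ^ p = 1) : factorEnd α n ^ p = 1 := by
  have h : ∀ (m : ℕ) (g : lcsTerm G n), ∃ hm : (α ^ m) (g : G) ∈ lcsTerm G n,
      (factorEnd α n ^ m) (Additive.ofMul (QuotientGroup.mk g)) =
        Additive.ofMul (QuotientGroup.mk (⟨(α ^ m) g, hm⟩ : lcsTerm G n)) := by
    intro m
    induction m with
    | zero => intro g; exact ⟨g.2, rfl⟩
    | succ m ihm =>
      intro g
      obtain ⟨hm, e⟩ := ihm g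
      have h1 : (α ^ (m + 1)) (g : G) = α ((α ^ m) g) := by rw [pow_succ']; rfl
      refine ⟨h1 ▸ map_mem_lcsTerm α hm, ?_⟩
      rw [pow_succ', AddMonoid.End.coe_mul, Function.comp_apply, e, factorEnd_mk]
      exact congrArg (fun w => Additive.ofMul (QuotientGroup.mk w)) (Subtype.ext h1.symm)
  refine DFunLike.ext _ _ fun q => ?_
  obtain ⟨g, hg⟩ := QuotientGroup.mk_surjective (Additive.toMul q)
  obtain ⟨hm, e⟩ := h p g
  rw [show q = Additive.ofMul (QuotientGroup.mk g) by rw [hg]; rfl, e]
  exact congrArg (fun w => Additive.ofMul (QuotientGroup.mk w))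
    (Subtype.ext (by show (α ^ p) (g : G) = g; rw [hα]; rfl))

theorem card_fixed_factor_le (α : MulAut G) (k c : ℕ) (hc : Nat.card {g : G // α g = g} ≤ c) :
    Nat.card {q : LcsFactor G k // factorEnd α k q = q} ≤ c := by
  set N := (lcsTerm G (k + 1)).subgroupOf (lcsTerm G k)
  let α' : lcsTerm G k ≃* lcsTerm G k :=
    { toFun := fun g => ⟨α g, map_mem_lcsTerm α g.2⟩
      invFun := fun g => ⟨α⁻¹ g, map_mem_lcsTerm α⁻¹ g.2⟩
      left_inv := fun g => Subtype.ext (α.symm_apply_apply g)
      right_inv := fun g => Subtype.ext (α.apply_symm_apply g)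
      map_mul' := fun g h => Subtype.ext (map_mul α (g : G) h) }
  have h1 : Nat.card {q : LcsFactor G k // factorEnd α k q = q} ≤
      Nat.card {g : lcsTerm G k // α' g = g} :=
    card_fixed_quotient_le α' N
      (fun g hg => map_mem_lcsTerm α (n := k + 1) hg)
      (fun q => Additive.toMul (factorEnd α k (Additive.ofMul q)))
      fun g => congrArg Additive.toMul (factorEnd_mk α k g)
  refine h1.trans (le_trans ?_ hc)
  refine Nat.card_le_card_of_injective (fun g => ⟨(g.1 : G), congrArg Subtype.val g.2⟩) ?_
  intro a b h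
  exact Subtype.ext (Subtype.ext (congrArg Subtype.val h :))

/-- The exponent of a lower central factor of bounded index. -/
theorem pow_mem_lcsTerm_succ (hG : IsPGroup p G) (α : MulAut G) (hα : α ^ p = 1) (n : ℕ)
    (hfix : Nat.card {g : G // α g = g} ≤ p ^ n) {g : G} (hg : g ∈ lcsTerm G (higmanBound p)) :
    g ^ p ^ ((n + 1) * (higmanBound p + 1)) ∈ lcsTerm G (higmanBound p + 1) := by
  classical
  have hp : p.Prime := Fact.out
  -- fixed points of the factors are killed by `p ^ n`
  have hkill : ∀ (k : ℕ) (q : LcsFactor G k), factorEnd α k q = q → p ^ n • q = 0 := by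
    intro k q hq
    let F : AddSubgroup (LcsFactor G k) := (factorEnd α k - 1).ker
    have hFc : Nat.card F ≤ p ^ n := by
      refine le_trans (le_of_eq ?_) (card_fixed_factor_le α k _ hfix)
      refine Nat.card_congr (Equiv.subtypeEquivRight fun w => ?_)
      show factorEnd α k w - w = 0 ↔ _
      exact sub_eq_zero
    obtain ⟨j, hj⟩ : ∃ j, Nat.card F = p ^ j := by
      have hd : Nat.card F ∣ Nat.card (lcsTerm G k ⧸ (lcsTerm G (k + 1)).subgroupOf (lcsTerm G k)) :=
        F.card_addSubgroup_dvd_card.trans (dvd_of_eq (Nat.card_congr Additive.toMul))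
      obtain ⟨e, he⟩ := IsPGroup.iff_card.1
        ((hG.to_subgroup (lcsTerm G k)).to_quotient ((lcsTerm G (k + 1)).subgroupOf (lcsTerm G k)))
      obtain ⟨j, -, hj⟩ := (Nat.dvd_prime_pow hp).1 (he ▸ hd)
      exact ⟨j, hj⟩
    have hjn : j ≤ n := (Nat.pow_le_pow_iff_right hp.one_lt).1 (hj ▸ hFc)
    have hqF : q ∈ F := by
      show factorEnd α k q - q = 0
      rw [hq, sub_self]
    have h1 : addOrderOf (⟨q, hqF⟩ : F) ∣ p ^ n :=
      (addOrderOf_dvd_natCard _).trans (hj ▸ pow_dvd_pow p hjn)
    exact congrArg Subtype.val (addOrderOf_dvd_iff_nsmul_eq_zero.1 h1)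
  let T : LcsRing G →+ LcsRing G := DirectSum.toAddMonoid fun k =>
    (DirectSum.of (LcsFactor G) k).comp (factorEnd α k)
  have hT : ∀ k, ∀ h ∈ lcsTerm G k, T (cls k h) = cls k (α h) := fun k h hh => by
    rw [cls_of_mem hh, cls_of_mem (map_mem_lcsTerm α hh)]
    show DirectSum.toAddMonoid _ _ = _
    rw [DirectSum.toAddMonoid_of]
    exact congrArg (DirectSum.of (LcsFactor G) k) (factorEnd_mk α k ⟨h, hh⟩)
  have hTlie : ∀ x y, T ⁅x, y⁆ = ⁅T x, T y⁆ := by
    intro x y
    show T (lcsBracket x y) = lcsBracket (T x) (T y)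
    induction x using lcsRing_induction with
    | h0 => simp
    | hadd u v hu hv => simp only [map_add, AddMonoidHom.add_apply, hu, hv]
    | hcls i a ha =>
      induction y using lcsRing_induction with
      | h0 => simp
      | hadd u v hu hv => simp only [map_add, hu, hv]
      | hcls j b hb =>
        rw [lcsBracket_cls ha hb, hT _ _ (comm_mem_lcsTerm ha hb), hT i a ha, hT j b hb,
          lcsBracket_cls (map_mem_lcsTerm α ha) (map_mem_lcsTerm α hb), map_commutatorElement]
  have hTcomp : ∀ (y : LcsRing G) k, (T y) k = factorEnd α k (y k) := by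
    intro y k
    induction y using DirectSum.induction_on with
    | zero => simp
    | add u v hu hv => simp only [map_add, DirectSum.add_apply, hu, hv]
    | of i q =>
      have e : T (DirectSum.of (LcsFactor G) i q) = DirectSum.of (LcsFactor G) i (factorEnd α i q) :=
        DirectSum.toAddMonoid_of _ i q
      rw [e]
      rcases eq_or_ne k i with rfl | hne
      · rw [DirectSum.of_eq_same, DirectSum.of_eq_same]
      · rw [DirectSum.of_eq_of_ne _ _ _ hne, DirectSum.of_eq_of_ne _ _ _ hne, map_zero]
  have hTp : ∀ x, (⇑T)^[p] x = x := by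
    intro x
    have hit : ∀ (m k : ℕ), ((⇑T)^[m] x) k = (factorEnd α k ^ m) (x k) := by
      intro m k
      induction m with
      | zero => rfl
      | succ m ih =>
        rw [Function.iterate_succ_apply', hTcomp, ih, pow_succ', AddMonoid.End.coe_mul,
          Function.comp_apply]
    refine DFinsupp.ext fun k => ?_
    rw [hit, factorEnd_pow α k hα]
    rfl
  have hTfix : ∀ x, T x = x → p ^ n • x = 0 := by
    intro x hx
    refine DFinsupp.ext fun k => ?_
    rw [DFinsupp.smul_apply]
    exact hkill k (x k) (by rw [← hTcomp, hx])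
  have h := nsmul_lieSeries_eq_zero T hTlie hTp (p ^ n) hTfix _ (cls_mem_lieSeries _ g hg)
  have hpow : ∀ m : ℕ, cls (higmanBound p) (g ^ m) = m • cls (higmanBound p) g := by
    intro m
    induction m with
    | zero => rw [pow_zero, cls_one, zero_smul]
    | succ m ihm => rw [pow_succ, cls_mul (pow_mem hg m) hg, ihm, succ_nsmul]
  rw [← pow_succ, ← pow_mul, ← hpow] at h
  exact (cls_eq_zero_iff (pow_mem hg _)).1 h

/-- The bound on a lower central factor. -/
theorem relIndex_lcsTerm_le (hG : IsPGroup p G) (α : MulAut G) (hα : α ^ p = 1) (n : ℕ)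
    (hfix : Nat.card {g : G // α g = g} ≤ p ^ n) :
    (lcsTerm G (higmanBound p + 1)).relIndex (lcsTerm G (higmanBound p)) ≤
      p ^ (n * (p * ((n + 1) * (higmanBound p + 1)))) := by
  rw [pow_mul]
  refine le_trans (le_of_eq (Nat.card_congr Additive.ofMul))
    (card_le_of_fixed (factorEnd α (higmanBound p)) (factorEnd_pow α _ hα) _ ?_ _
      (card_fixed_factor_le α _ _ hfix))
  intro q
  obtain ⟨g, hg⟩ := QuotientGroup.mk_surjective (Additive.toMul q)
  rw [show q = Additive.ofMul (QuotientGroup.mk g) by rw [hg]; rfl, ← ofMul_pow,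
    ← QuotientGroup.mk_pow, ← ofMul_one, Additive.ofMul.injective.eq_iff, QuotientGroup.eq_one_iff,
    Subgroup.mem_subgroupOf, Subgroup.coe_pow]
  exact pow_mem_lcsTerm_succ hG α hα n hfix g.2

/-- The derived length bound of a p-group. -/
def pGroupBound (p n : ℕ) : ℕ :=
  n * (p * ((n + 1) * (higmanBound p + 1))) + (higmanBound p + 1)

/-- A p-group with an automorphism of period p fixing at most `p ^ n` elements has bounded
derived length. -/
theorem derivedSeries_eq_bot_of_pGroup (hG : IsPGroup p G) (α : MulAut G) (hα : α ^ p = 1) (n : ℕ)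
    (hfix : Nat.card {g : G // α g = g} ≤ p ^ n) : derivedSeries G (pGroupBound p n) = ⊥ := by
  set M := n * (p * ((n + 1) * (higmanBound p + 1))) with hM
  set N := lcsTerm G M with hN
  let α' : MulAut N :=
    { toFun := fun g => ⟨α g, map_mem_lcsTerm α g.2⟩
      invFun := fun g => ⟨α⁻¹ g, map_mem_lcsTerm α⁻¹ g.2⟩
      left_inv := fun g => Subtype.ext (α.symm_apply_apply g)
      right_inv := fun g => Subtype.ext (α.apply_symm_apply g)
      map_mul' := fun g h => Subtype.ext (map_mul α (g : G) h) }
  have hpow : ∀ (m : ℕ) (g : N), ((α' ^ m) g : G) = (α ^ m) (g : G) := by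
    intro m
    induction m with
    | zero => intro g; rfl
    | succ m ih => intro g; rw [pow_succ', pow_succ']; exact congrArg α (ih g)
  have hα' : α' ^ p = 1 := MulEquiv.ext fun g => Subtype.ext (by rw [hpow, hα]; rfl)
  have hfix' : Nat.card {g : N // α' g = g} ≤ p ^ n := by
    refine le_trans ?_ hfix
    refine Nat.card_le_card_of_injective (fun g => ⟨(g.1 : G), congrArg Subtype.val g.2⟩) ?_
    intro a b h
    exact Subtype.ext (Subtype.ext (congrArg Subtype.val h :))
  have hrel := relIndex_lcsTerm_le (hG.to_subgroup N) α' hα' n hfix'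
  have hmap : ∀ k, (lcsTerm N k).map N.subtype = N.lowerCentralSeries k := by
    intro k
    rw [Subgroup.map_lowerCentralSeries, ← MonoidHom.range_eq_map, Subgroup.range_subtype]
  have hξ : 1 ≤ higmanBound p := by
    have hp2 : 2 ≤ p := (Fact.out : p.Prime).two_le
    have h2 : 2 ≤ 2 ^ (p - 1) := Nat.le_self_pow (by omega) 2
    refine le_trans ?_ (Finset.single_le_sum (f := fun i => (p - 1) ^ i) (fun _ _ => Nat.zero_le _)
      (Finset.mem_range.2 (show 0 < 2 ^ (p - 1) - 1 by omega)))
    simp
  have hbot : N.lowerCentralSeries (higmanBound p + 1) = ⊥ := by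
    by_contra hne
    have h := Cfsg.Agent.S3781.result hG (M + 1) (by omega) N (by rw [hN, Nat.add_sub_cancel])
      (higmanBound p + 1) (by omega) hne
    rw [Nat.add_sub_cancel, ← hmap, ← hmap,
      Subgroup.relIndex_map_map_of_injective _ _ N.subtype_injective] at h
    have := (Nat.pow_le_pow_iff_right (Fact.out : p.Prime).one_lt).1 (h.trans hrel)
    omega
  have hle : ∀ k, derivedSeries G (M + k) ≤ N.lowerCentralSeries k := by
    intro k
    induction k with
    | zero => simpa using Subgroup.derived_le_lower_central (G := G) M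
    | succ k ih =>
      rw [Nat.add_succ, derivedSeries_succ, Subgroup.lowerCentralSeries_succ]
      refine Subgroup.commutator_mono ih ?_
      exact (derivedSeries_antitone G (Nat.le_add_right M k)).trans
        (Subgroup.derived_le_lower_central M)
  exact le_bot_iff.1 ((hle _).trans hbot.le)

end PGroup

end CfsgLib.Higman
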