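import Mathlib
import Cfsg.Agent.S4206
import Cfsg.Agent.Lib.Higman.Eigen
import Cfsg.Agent.Lib.Base.ThompsonFPF

/-!
# The Lie ring of the lower central series

The Higman bounds for finite groups with a fixed-point-free automorphism of prime order.
-/

set_option linter.style.haveILetI false
set_option linter.unusedSectionVars false
set_option autoImplicit false

namespace CfsgLib.Higman

open scoped commutatorElement DirectSum

universe u

variable {G : Type u} [Group G] [Finite G]

/-- The terms of the lower central series. -/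
abbrev lcsTerm (G : Type u) [Group G] (n : ℕ) : Subgroup G := (⊤ : Subgroup G).lowerCentralSeries n

theorem comm_mem_lcsTerm {i j : ℕ} {a b : G} (ha : a ∈ lcsTerm G i) (hb : b ∈ lcsTerm G j) :
    ⁅a, b⁆ ∈ lcsTerm G (i + j + 1) :=
  Cfsg.Agent.S4206.result (fun n => lcsTerm G n) (fun _ => inferInstance)
    (fun n => Subgroup.lowerCentralSeries_antitone _ n.le_succ) ⊤ (fun _ => le_rfl) i j
    (Subgroup.commutator_mem_commutator ha hb)

/-- A factor of the lower central series. -/
abbrev LcsFactor (G : Type u) [Group G] (n : ℕ) : Type u :=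
  Additive (↥(lcsTerm G n) ⧸ (lcsTerm G (n + 1)).subgroupOf (lcsTerm G n))

noncomputable instance (n : ℕ) : AddCommGroup (LcsFactor G n) :=
  { (inferInstance : AddGroup (LcsFactor G n)) with
    add_comm := by
      intro x y
      obtain ⟨a, ha⟩ := QuotientGroup.mk_surjective (Additive.toMul x)
      obtain ⟨b, hb⟩ := QuotientGroup.mk_surjective (Additive.toMul y)
      apply Additive.toMul.injective
      show Additive.toMul x * Additive.toMul y = Additive.toMul y * Additive.toMul x
      rw [← ha, ← hb, ← QuotientGroup.mk_mul, ← QuotientGroup.mk_mul, QuotientGroup.eq,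
        Subgroup.mem_subgroupOf]
      have h1 := comm_mem_lcsTerm (inv_mem b.2) (inv_mem a.2)
      have h2 : n + n + 1 ≥ n + 1 := by omega
      have h3 := Subgroup.lowerCentralSeries_antitone _ h2 h1
      simpa [commutatorElement_def, mul_assoc] using h3 }

/-- The underlying group of the associated Lie ring. -/
abbrev LcsRing (G : Type u) [Group G] [Finite G] : Type u := ⨁ n, LcsFactor G n

open Classical in
/-- The class of an element in a given weight. -/
noncomputable def cls (n : ℕ) (g : G) : LcsRing G :=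
  if h : g ∈ lcsTerm G n then
    DirectSum.of (LcsFactor G) n (Additive.ofMul (QuotientGroup.mk (⟨g, h⟩ : lcsTerm G n)))
  else 0

theorem cls_of_mem {n : ℕ} {g : G} (h : g ∈ lcsTerm G n) :
    cls n g = DirectSum.of (LcsFactor G) n (Additive.ofMul (QuotientGroup.mk (⟨g, h⟩ : lcsTerm G n))) :=
  dif_pos h

theorem cls_mul {n : ℕ} {g h : G} (hg : g ∈ lcsTerm G n) (hh : h ∈ lcsTerm G n) :
    cls n (g * h) = cls n g + cls n h := by
  rw [cls_of_mem hg, cls_of_mem hh, cls_of_mem (mul_mem hg hh), ← map_add]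
  rfl

theorem cls_one (n : ℕ) : cls n (1 : G) = 0 := by
  have h := cls_mul (one_mem (lcsTerm G n)) (one_mem (lcsTerm G n))
  rw [mul_one] at h
  exact left_eq_add.mp h

theorem cls_inv {n : ℕ} {g : G} (hg : g ∈ lcsTerm G n) : cls n g⁻¹ = -cls n g := by
  refine eq_neg_of_add_eq_zero_left ?_
  rw [← cls_mul (inv_mem hg) hg, inv_mul_cancel, cls_one]

theorem cls_eq_zero_iff {n : ℕ} {g : G} (hg : g ∈ lcsTerm G n) :
    cls n g = 0 ↔ g ∈ lcsTerm G (n + 1) := by
  rw [cls_of_mem hg, map_eq_zero_iff _ (DirectSum.of_injective (β := LcsFactor G) n)]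
  show Additive.ofMul _ = Additive.ofMul 1 ↔ _
  rw [Additive.ofMul.injective.eq_iff, QuotientGroup.eq_one_iff, Subgroup.mem_subgroupOf]

theorem cls_conj {n : ℕ} {g : G} (hg : g ∈ lcsTerm G n) (c : G) :
    cls n (c * g * c⁻¹) = cls n g := by
  have h1 : ⁅c, g⁆ ∈ lcsTerm G (n + 1) := by
    have h := comm_mem_lcsTerm (i := 0) (Subgroup.mem_top c : c ∈ lcsTerm G 0) hg
    simpa using h
  rw [show c * g * c⁻¹ = ⁅c, g⁆ * g by simp [commutatorElement_def],
    cls_mul (Subgroup.lowerCentralSeries_antitone _ n.le_succ h1) hg,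
    (cls_eq_zero_iff (Subgroup.lowerCentralSeries_antitone _ n.le_succ h1)).mpr h1, zero_add]

theorem exists_cls_eq (n : ℕ) (q : LcsFactor G n) :
    ∃ g ∈ lcsTerm G n, cls n g = DirectSum.of (LcsFactor G) n q := by
  obtain ⟨g, hg⟩ := QuotientGroup.mk_surjective (Additive.toMul q)
  exact ⟨g, g.2, by rw [cls_of_mem g.2]; exact congrArg _ (congrArg Additive.ofMul hg)⟩

theorem lcsRing_induction {P : LcsRing G → Prop} (h0 : P 0)
    (hadd : ∀ x y, P x → P y → P (x + y)) (hcls : ∀ n, ∀ g ∈ lcsTerm G n, P (cls n g))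
    (x : LcsRing G) : P x := by
  induction x using DirectSum.induction_on with
  | zero => exact h0
  | of n q =>
    obtain ⟨g, hg, he⟩ := exists_cls_eq n q
    exact he ▸ hcls n g hg
  | add x y hx hy => exact hadd x y hx hy

/-- An additive map on one factor from a multiplicative map on the term. -/
noncomputable def liftFactor {M : Type*} [AddCommGroup M] {n : ℕ} (f : G → M)
    (hmul : ∀ g ∈ lcsTerm G n, ∀ h ∈ lcsTerm G n, f (g * h) = f g + f h)
    (hker : ∀ g ∈ lcsTerm G (n + 1), f g = 0) : LcsFactor G n →+ M :=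
  MonoidHom.toAdditiveLeft (QuotientGroup.lift ((lcsTerm G (n + 1)).subgroupOf (lcsTerm G n))
    (MonoidHom.mk' (fun g : lcsTerm G n => Multiplicative.ofAdd (f g))
      fun g h => by rw [← ofAdd_add]; exact congrArg _ (hmul g g.2 h h.2))
    fun g hg => congrArg Multiplicative.ofAdd (hker g hg))

theorem liftFactor_apply {M : Type*} [AddCommGroup M] {n : ℕ} (f : G → M)
    (hmul : ∀ g ∈ lcsTerm G n, ∀ h ∈ lcsTerm G n, f (g * h) = f g + f h)
    (hker : ∀ g ∈ lcsTerm G (n + 1), f g = 0) (g : G) (hg : g ∈ lcsTerm G n) :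
    liftFactor f hmul hker (Additive.ofMul (QuotientGroup.mk (⟨g, hg⟩ : lcsTerm G n))) = f g := rfl

theorem cls_comm_mul_right {i j : ℕ} {a b c : G} (ha : a ∈ lcsTerm G i) (hb : b ∈ lcsTerm G j)
    (hc : c ∈ lcsTerm G j) :
    cls (i + j + 1) ⁅a, b * c⁆ = cls (i + j + 1) ⁅a, b⁆ + cls (i + j + 1) ⁅a, c⁆ := by
  rw [show ⁅a, b * c⁆ = ⁅a, b⁆ * (b * ⁅a, c⁆ * b⁻¹) by simp [commutatorElement_def, mul_assoc],
    cls_mul (comm_mem_lcsTerm ha hb)
      ((inferInstance : (lcsTerm G (i + j + 1)).Normal).conj_mem _ (comm_mem_lcsTerm ha hc) b),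
    cls_conj (comm_mem_lcsTerm ha hc)]

theorem cls_comm_mul_left {i j : ℕ} {a b c : G} (ha : a ∈ lcsTerm G i) (hb : b ∈ lcsTerm G i)
    (hc : c ∈ lcsTerm G j) :
    cls (i + j + 1) ⁅a * b, c⁆ = cls (i + j + 1) ⁅a, c⁆ + cls (i + j + 1) ⁅b, c⁆ := by
  rw [show ⁅a * b, c⁆ = a * ⁅b, c⁆ * a⁻¹ * ⁅a, c⁆ by simp [commutatorElement_def, mul_assoc],
    cls_mul ((inferInstance : (lcsTerm G (i + j + 1)).Normal).conj_mem _ (comm_mem_lcsTerm hb hc) a)
      (comm_mem_lcsTerm ha hc), cls_conj (comm_mem_lcsTerm hb hc), add_comm]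

theorem cls_comm_zero_right {i j : ℕ} {a b : G} (ha : a ∈ lcsTerm G i)
    (hb : b ∈ lcsTerm G (j + 1)) : cls (i + j + 1) ⁅a, b⁆ = 0 :=
  (cls_eq_zero_iff (comm_mem_lcsTerm ha (Subgroup.lowerCentralSeries_antitone _ j.le_succ hb))).mpr
    (by have h := comm_mem_lcsTerm ha hb; rwa [show i + (j + 1) + 1 = i + j + 1 + 1 by omega] at h)

theorem cls_comm_zero_left {i j : ℕ} {a b : G} (ha : a ∈ lcsTerm G (i + 1))
    (hb : b ∈ lcsTerm G j) : cls (i + j + 1) ⁅a, b⁆ = 0 :=
  (cls_eq_zero_iff (comm_mem_lcsTerm (Subgroup.lowerCentralSeries_antitone _ i.le_succ ha) hb)).mpr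
    (by have h := comm_mem_lcsTerm ha hb; rwa [show i + 1 + j + 1 = i + j + 1 + 1 by omega] at h)

/-- The bracket of an element with a factor. -/
noncomputable def bracketRight {i : ℕ} (a : G) (ha : a ∈ lcsTerm G i) (j : ℕ) :
    LcsFactor G j →+ LcsRing G :=
  liftFactor (fun b => cls (i + j + 1) ⁅a, b⁆) (fun _ hb _ hc => cls_comm_mul_right ha hb hc)
    fun _ hb => cls_comm_zero_right ha hb

open Classical in
/-- The bracket with a fixed element, as a total function. -/
noncomputable def bracketWith (i : ℕ) (a : G) : LcsRing G →+ LcsRing G :=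
  if ha : a ∈ lcsTerm G i then DirectSum.toAddMonoid (bracketRight a ha) else 0

theorem bracketWith_cls {i j : ℕ} {a b : G} (ha : a ∈ lcsTerm G i) (hb : b ∈ lcsTerm G j) :
    bracketWith i a (cls j b) = cls (i + j + 1) ⁅a, b⁆ := by
  rw [bracketWith, dif_pos ha, cls_of_mem hb, DirectSum.toAddMonoid_of]
  exact liftFactor_apply _ _ _ b hb

theorem bracketWith_mul {i : ℕ} {a b : G} (ha : a ∈ lcsTerm G i) (hb : b ∈ lcsTerm G i) :
    bracketWith i (a * b) = bracketWith i a + bracketWith i b := by
  refine AddMonoidHom.ext fun x => ?_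
  induction x using lcsRing_induction with
  | h0 => simp
  | hadd u v hu hv => rw [map_add, map_add, hu, hv]
  | hcls n c hc =>
    rw [AddMonoidHom.add_apply, bracketWith_cls (mul_mem ha hb) hc, bracketWith_cls ha hc,
      bracketWith_cls hb hc, cls_comm_mul_left ha hb hc]

theorem bracketWith_zero {i : ℕ} {a : G} (ha : a ∈ lcsTerm G (i + 1)) : bracketWith i a = 0 := by
  refine AddMonoidHom.ext fun x => ?_
  induction x using lcsRing_induction with
  | h0 => simp
  | hadd u v hu hv => rw [map_add, map_add, hu, hv]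
  | hcls n c hc =>
    rw [bracketWith_cls (Subgroup.lowerCentralSeries_antitone _ i.le_succ ha) hc,
      cls_comm_zero_left ha hc, AddMonoidHom.zero_apply]

/-- The bracket of the associated Lie ring. -/
noncomputable def lcsBracket : LcsRing G →+ LcsRing G →+ LcsRing G :=
  DirectSum.toAddMonoid fun i =>
    liftFactor (bracketWith i) (fun _ ha _ hb => bracketWith_mul ha hb) fun _ ha => bracketWith_zero ha

theorem lcsBracket_cls {i j : ℕ} {a b : G} (ha : a ∈ lcsTerm G i) (hb : b ∈ lcsTerm G j) :
    lcsBracket (cls i a) (cls j b) = cls (i + j + 1) ⁅a, b⁆ := by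
  rw [cls_of_mem ha, lcsBracket, DirectSum.toAddMonoid_of, liftFactor_apply,
    bracketWith_cls ha hb]

theorem lcsBracket_skew (x y : LcsRing G) : lcsBracket x y + lcsBracket y x = 0 := by
  induction x using lcsRing_induction with
  | h0 => simp
  | hadd u v hu hv =>
    rw [map_add, map_add, AddMonoidHom.add_apply, add_add_add_comm, hu, hv, add_zero]
  | hcls i a ha =>
    induction y using lcsRing_induction with
    | h0 => simp
    | hadd u v hu hv =>
      rw [map_add, map_add, AddMonoidHom.add_apply, add_add_add_comm, hu, hv, add_zero]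
    | hcls j b hb =>
      rw [lcsBracket_cls ha hb, lcsBracket_cls hb ha, show j + i + 1 = i + j + 1 by omega,
        ← commutatorElement_inv a b, cls_inv (comm_mem_lcsTerm ha hb), add_neg_cancel]

theorem hall_witt (x y z : G) :
    ⁅⁅x, y⁆, y * z * y⁻¹⁆ * ⁅⁅y, z⁆, z * x * z⁻¹⁆ * ⁅⁅z, x⁆, x * y * x⁻¹⁆ = 1 := by
  simp only [commutatorElement_def]
  group

theorem lcsBracket_jacobi (x y z : LcsRing G) :
    lcsBracket (lcsBracket x y) z + lcsBracket (lcsBracket y z) x
      + lcsBracket (lcsBracket z x) y = 0 := by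
  have habc : ∀ {a b c a' b' c' : LcsRing G}, a + b + c = 0 → a' + b' + c' = 0 →
      (a + a') + (b + b') + (c + c') = 0 := by
    intro a b c a' b' c' h h'
    calc (a + a') + (b + b') + (c + c') = (a + b + c) + (a' + b' + c') := by abel
      _ = 0 := by rw [h, h', add_zero]
  induction x using lcsRing_induction with
  | h0 => simp
  | hadd u v hu hv =>
    simp only [map_add, AddMonoidHom.add_apply]
    exact habc hu hv
  | hcls i a ha =>
    induction y using lcsRing_induction with
    | h0 => simp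
    | hadd u v hu hv =>
      simp only [map_add, AddMonoidHom.add_apply]
      exact habc hu hv
    | hcls j b hb =>
      induction z using lcsRing_induction with
      | h0 => simp
      | hadd u v hu hv =>
        simp only [map_add, AddMonoidHom.add_apply]
        exact habc hu hv
      | hcls k c hc =>
        have hab := comm_mem_lcsTerm ha hb
        have hbc := comm_mem_lcsTerm hb hc
        have hca := comm_mem_lcsTerm hc ha
        rw [lcsBracket_cls ha hb, lcsBracket_cls hb hc, lcsBracket_cls hc ha,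
          lcsBracket_cls hab hc, lcsBracket_cls hbc ha, lcsBracket_cls hca hb]
        have hconj : ∀ {m l : ℕ} {u w : G} (t : G), u ∈ lcsTerm G m → w ∈ lcsTerm G l →
            ⁅u, t * w * t⁻¹⁆ ∈ lcsTerm G (m + l + 1) ∧
              cls (m + l + 1) ⁅u, t * w * t⁻¹⁆ = cls (m + l + 1) ⁅u, w⁆ := by
          intro m l u w t hu hw
          have hw' : t * w * t⁻¹ ∈ lcsTerm G l :=
            (inferInstance : (lcsTerm G l).Normal).conj_mem w hw t
          refine ⟨comm_mem_lcsTerm hu hw', ?_⟩
          rw [← bracketWith_cls hu hw', cls_conj hw t, bracketWith_cls hu hw]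
        obtain ⟨m1, e1⟩ := hconj b hab hc
        obtain ⟨m2, e2⟩ := hconj c hbc ha
        obtain ⟨m3, e3⟩ := hconj a hca hb
        rw [← e1, ← e2, ← e3]
        have hn2 : j + k + 1 + i + 1 = i + j + 1 + k + 1 := by omega
        have hn3 : k + i + 1 + j + 1 = i + j + 1 + k + 1 := by omega
        rw [hn2] at m2 ⊢
        rw [hn3] at m3 ⊢
        rw [← cls_mul m1 m2, ← cls_mul (mul_mem m1 m2) m3, hall_witt, cls_one]

/-- The Lie ring of the lower central series. -/
noncomputable instance lcsLieRing : LieRing (LcsRing G) where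
  bracket x y := lcsBracket x y
  add_lie x y z := by simp
  lie_add x y z := by simp
  lie_self x := by
    induction x using lcsRing_induction with
    | h0 => simp
    | hadd u v hu hv =>
      show lcsBracket (u + v) (u + v) = 0
      have hu' : lcsBracket u u = 0 := hu
      have hv' : lcsBracket v v = 0 := hv
      simp only [map_add, AddMonoidHom.add_apply, hu', hv', zero_add, add_zero]
      rw [add_comm]
      exact lcsBracket_skew u v
    | hcls i a ha =>
      show lcsBracket (cls i a) (cls i a) = 0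
      rw [lcsBracket_cls ha ha, commutatorElement_self, cls_one]
  leibniz_lie x y z := by
    show lcsBracket x (lcsBracket y z) = lcsBracket (lcsBracket x y) z + lcsBracket y (lcsBracket x z)
    have h := lcsBracket_jacobi x y z
    rw [eq_neg_of_add_eq_zero_left (lcsBracket_skew (lcsBracket y z) x),
      eq_neg_of_add_eq_zero_left (lcsBracket_skew (lcsBracket z x) y),
      eq_neg_of_add_eq_zero_left (lcsBracket_skew z x), map_neg, neg_neg] at h
    calc lcsBracket x (lcsBracket y z)
        = (lcsBracket (lcsBracket x y) z + -lcsBracket x (lcsBracket y z)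
            + lcsBracket y (lcsBracket x z)) + lcsBracket x (lcsBracket y z) := by rw [h, zero_add]
      _ = _ := by abel

theorem cls_mem_lieSeries : ∀ (n : ℕ), ∀ g ∈ lcsTerm G n, cls n g ∈ lieSeries (LcsRing G) n := by
  intro n
  induction n with
  | zero => exact fun g _ => AddSubgroup.mem_top _
  | succ n ih =>
    intro g hg
    let U : Subgroup G :=
      { carrier := {g | g ∈ lcsTerm G (n + 1) ∧ cls (n + 1) g ∈ lieSeries (LcsRing G) (n + 1)}
        mul_mem' := fun {u v} hu hv =>
          ⟨mul_mem hu.1 hv.1, by rw [cls_mul hu.1 hv.1]; exact add_mem hu.2 hv.2⟩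
        one_mem' := ⟨one_mem _, by rw [cls_one]; exact zero_mem _⟩
        inv_mem' := fun {u} hu =>
          ⟨inv_mem hu.1, by rw [cls_inv hu.1]; exact neg_mem hu.2⟩ }
    have h : lcsTerm G (n + 1) ≤ U := by
      show ⁅lcsTerm G n, (⊤ : Subgroup G)⁆ ≤ U
      rw [Subgroup.commutator_le]
      intro a ha b hb
      have hb' : b ∈ lcsTerm G 0 := hb
      refine ⟨comm_mem_lcsTerm (j := 0) ha hb', ?_⟩
      exact AddSubgroup.subset_closure
        ⟨cls n a, ih a ha, cls 0 b, (lcsBracket_cls ha hb').trans rfl⟩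
    exact (h hg).2

/-- Higman's bounds on the nilpotency class. -/
theorem lowerCentralSeries_eq_bot_of_fixedPointFree {p : ℕ} (hp : p.Prime) (α : MulAut G)
    (hα : α ^ p = 1) (hfix : ∀ g, α g = g → g = 1) :
    (p = 2 → lcsTerm G 1 = ⊥) ∧ (p = 3 → lcsTerm G 2 = ⊥) ∧
      lcsTerm G (∑ i ∈ Finset.range (2 ^ (p - 1) - 1), (p - 1) ^ i) = ⊥ := by
  haveI := Fact.mk hp
  haveI hnil : Group.IsNilpotent G :=
    CfsgLib.Base.isNilpotent_of_fixedPointFree α (fun g hg => hfix g hg) hp hα
  -- `p` does not divide the order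
  have hGp : (Nat.card G).Coprime p := by
    have hP : IsPGroup p (Subgroup.zpowers α) := by
      obtain ⟨k, -, hk⟩ := (Nat.dvd_prime_pow hp).mp
        (show orderOf α ∣ p ^ 1 by rw [pow_one]; exact orderOf_dvd_of_pow_eq_one hα)
      exact IsPGroup.of_card (n := k) (by rw [Nat.card_zpowers, hk])
    have hfp : MulAction.fixedPoints (Subgroup.zpowers α) G = {1} := by
      ext g
      refine ⟨fun h => hfix g (h ⟨α, Subgroup.mem_zpowers α⟩), fun h => ?_⟩
      rw [Set.mem_singleton_iff.mp h]
      exact fun a => map_one (a : MulAut G)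
    have h1 := hP.card_modEq_card_fixedPoints G
    rw [hfp, Nat.card_coe_set_eq, Set.ncard_singleton] at h1
    refine ((Nat.Prime.coprime_iff_not_dvd hp).mpr fun hd => ?_).symm
    exact hp.one_lt.ne' (Nat.dvd_one.mp (Nat.modEq_zero_iff_dvd.mp
      (h1.symm.trans (Nat.modEq_zero_iff_dvd.mpr hd))))
  have hαmem : ∀ n, ∀ g ∈ lcsTerm G n, α g ∈ lcsTerm G n := fun n g hg => by
    have h1 : α g ∈ (lcsTerm G n).map α.toMonoidHom := ⟨g, hg, rfl⟩
    rwa [Subgroup.map_lowerCentralSeries,
      Subgroup.map_top_of_surjective α.toMonoidHom α.surjective] at h1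
  -- the induced endomorphism
  let T : LcsRing G →+ LcsRing G := DirectSum.toAddMonoid fun n =>
    liftFactor (fun g => cls n (α g))
      (fun g hg h hh => by rw [map_mul]; exact cls_mul (hαmem n g hg) (hαmem n h hh))
      fun g hg => (cls_eq_zero_iff (hαmem n g (Subgroup.lowerCentralSeries_antitone _ n.le_succ hg))).mpr
        (hαmem (n + 1) g hg)
  have hT : ∀ n, ∀ g ∈ lcsTerm G n, T (cls n g) = cls n (α g) := fun n g hg => by
    rw [cls_of_mem hg]
    show DirectSum.toAddMonoid _ _ = _
    rw [DirectSum.toAddMonoid_of, liftFactor_apply]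
  have hTlie : ∀ x y, T ⁅x, y⁆ = ⁅T x, T y⁆ := by
    intro x y
    show T (lcsBracket x y) = lcsBracket (T x) (T y)
    induction x using lcsRing_induction with
    | h0 => simp
    | hadd u v hu hv => simp only [map_add, AddMonoidHom.add_apply, hu, hv]
    | hcls i a ha =>
      induction y using lcsRing_induction with
      | h0 => simp
      | hadd u v hu hv => simp only [map_add, hu, hv]
      | hcls j b hb =>
        rw [lcsBracket_cls ha hb, hT _ _ (comm_mem_lcsTerm ha hb), hT i a ha, hT j b hb,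
          lcsBracket_cls (hαmem i a ha) (hαmem j b hb), map_commutatorElement]
  have hTp : ∀ x, (⇑T)^[p] x = x := by
    intro x
    induction x using lcsRing_induction with
    | h0 => exact Function.iterate_fixed (map_zero T) p
    | hadd u v hu hv => rw [iterate_map_add, hu, hv]
    | hcls n g hg =>
      have h : ∀ m, (α ^ m) g ∈ lcsTerm G n ∧ (⇑T)^[m] (cls n g) = cls n ((α ^ m) g) := by
        intro m
        induction m with
        | zero => exact ⟨hg, rfl⟩
        | succ m ihm =>
          rw [pow_succ', MulAut.mul_apply, Function.iterate_succ_apply', ihm.2, hT n _ ihm.1]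
          exact ⟨hαmem n _ ihm.1, rfl⟩
      rw [(h p).2, hα, MulAut.one_apply]
  have hTfix : ∀ x, T x = x → x = 0 := by
    intro x hx
    refine DFinsupp.ext fun n => ?_
    have hcomp : ∀ y : LcsRing G, (T y) n = (T (DirectSum.of (LcsFactor G) n (y n))) n := by
      intro y
      induction y using lcsRing_induction with
      | h0 => simp
      | hadd u v hu hv => simp only [map_add, DirectSum.add_apply, hu, hv]
      | hcls m g hg =>
        rcases eq_or_ne n m with rfl | hne
        · rw [cls_of_mem hg, DirectSum.of_eq_same]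
        · rw [hT m g hg, cls_of_mem hg, cls_of_mem (hαmem m g hg),
            DirectSum.of_eq_of_ne _ _ _ hne, DirectSum.of_eq_of_ne _ _ _ hne, map_zero, map_zero,
            DirectSum.zero_apply]
    obtain ⟨g, hg, he⟩ := exists_cls_eq n (x n)
    have h1 := hcomp x
    rw [hx, ← he, hT n g hg, cls_of_mem (hαmem n g hg), DirectSum.of_eq_same] at h1
    have h2 : cls n (α g) = cls n g := by
      rw [cls_of_mem (hαmem n g hg), ← h1, ← he]
    have hd : g⁻¹ * α g ∈ lcsTerm G (n + 1) := by
      rw [← cls_eq_zero_iff (mul_mem (inv_mem hg) (hαmem n g hg)),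
        cls_mul (inv_mem hg) (hαmem n g hg), cls_inv hg, h2, neg_add_cancel]
    let f : lcsTerm G (n + 1) → lcsTerm G (n + 1) := fun h =>
      ⟨(h : G)⁻¹ * α h, mul_mem (inv_mem h.2) (hαmem (n + 1) h h.2)⟩
    have hinj : Function.Injective f := by
      intro a b hab
      have h3 : (a : G)⁻¹ * α a = (b : G)⁻¹ * α b := congrArg Subtype.val hab
      have h4 : α ((b : G) * (a : G)⁻¹) = (b : G) * (a : G)⁻¹ := by
        rw [map_mul, map_inv, inv_mul_eq_iff_eq_mul.mp h3]
        group
      exact Subtype.ext (mul_inv_eq_one.mp (hfix _ h4)).symm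
    obtain ⟨h, hh⟩ := (Finite.injective_iff_surjective.mp hinj) ⟨g⁻¹ * α g, hd⟩
    have h5 : (h : G)⁻¹ * α h = g⁻¹ * α g := congrArg Subtype.val hh
    have h6 : α ((h : G) * g⁻¹) = (h : G) * g⁻¹ := by
      rw [map_mul, map_inv, inv_mul_eq_iff_eq_mul.mp h5]
      group
    have h7 : (h : G) = g := mul_inv_eq_one.mp (hfix _ h6)
    have h8 : cls n g = 0 := (cls_eq_zero_iff hg).mpr (h7 ▸ h.2)
    rw [he] at h8
    rw [DirectSum.of_injective (β := LcsFactor G) n (h8.trans (map_zero _).symm)]
    rfl
  have hdiv : ∀ x : LcsRing G, ∃ y, p • y = x := by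
    intro x
    induction x using lcsRing_induction with
    | h0 => exact ⟨0, smul_zero _⟩
    | hadd u v hu hv =>
      obtain ⟨u', rfl⟩ := hu
      obtain ⟨v', rfl⟩ := hv
      exact ⟨u' + v', smul_add _ _ _⟩
    | hcls n g hg =>
      obtain ⟨w, hw⟩ := (powCoprime (hGp.coprime_dvd_left
        (Subgroup.card_subgroup_dvd_card (lcsTerm G n)))).surjective ⟨g, hg⟩
      refine ⟨cls n (w : G), ?_⟩
      have hpow : ∀ m : ℕ, cls n ((w : G) ^ m) = m • cls n (w : G) := by
        intro m
        induction m with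
        | zero => rw [pow_zero, cls_one, zero_smul]
        | succ m ihm => rw [pow_succ, cls_mul (pow_mem w.2 m) w.2, ihm, succ_nsmul]
      rw [← hpow]
      exact congrArg (cls n) (congrArg Subtype.val hw)
  obtain ⟨h2, h3, h4⟩ := lieSeries_eq_bot_of_fixedPointFree (p := p) T hTlie hTp hTfix hdiv
  obtain ⟨N, hN⟩ := Subgroup.nilpotent_iff_lowerCentralSeries.mp hnil
  have hend : ∀ m, lieSeries (LcsRing G) m = ⊥ → lcsTerm G m = ⊥ := by
    intro m hm
    have hstep : lcsTerm G m ≤ lcsTerm G (m + 1) := by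
      intro g hg
      have h := cls_mem_lieSeries m g hg
      rw [hm, AddSubgroup.mem_bot] at h
      exact (cls_eq_zero_iff hg).mp h
    have hall : ∀ k, lcsTerm G m ≤ lcsTerm G (m + k) := by
      intro k
      induction k with
      | zero => exact le_rfl
      | succ k ihk => exact hstep.trans (Subgroup.commutator_mono ihk le_rfl)
    exact le_bot_iff.mp (((hall N).trans
      (Subgroup.lowerCentralSeries_antitone _ (Nat.le_add_left N m))).trans hN.le)
  exact ⟨fun h => hend _ (h2 h), fun h => hend _ (h3 h), hend _ h4⟩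

end CfsgLib.Higman
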